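import Cfsg.Agent.H59.O8S.Num_m3
import Cfsg.Agent.H912.Core4
import Cfsg.Agent.H925.OrthRed
import Cfsg.Agent.H884.ElRows_m3
import Cfsg.Agent.H708.O8.Par_m3
import Cfsg.Agent.H264.FKS.ResCore
import Cfsg.Agent.H906.Cover_m3
import Cfsg.Agent.OddHalf.Known
import Cfsg.Agent.H954.CWarn
import Cfsg.Agent.H424.Spr.Two
import Cfsg.Agent.FastGrp
import Cfsg.Agent.Prune
set_option linter.all false

section
prune_inst 0x7ffdfdf9bbb879dfdfff7e77a6dccdfdf9bb3fffa4dff9cb3fe029df2bdf6b08cdc5f3ad8bea11fe1ef6c21410e87b43f9ffceffe26bdc7ffffd5ff41ffbee0ffdf7b508519588340fbc0ffe03f0778e7f3fffffffffffffffffffffffffffaeffbfffffffff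

-- part: H823/O8S/Res
section
prune_inst 0x200040006040020000000502100000600000000000400800800000000909000000000000120000000080808040000000020000800000000000000400000000000080420002000000060008000000000000000000000000000000000000000000000000000
set_option linter.all false
open scoped Cfsg.Agent.FastGrp

-- part: H823/O8S/Ext
section
/-!
# S3938-OPLUS8: overgroups of `x`, `t` which are reducible or normalise a field of order `q²` (helper823)
-/

set_option autoImplicit false
set_option linter.unusedSectionVars false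

namespace Cfsg.Agent.H823.O8S

open Module QuadraticMap Cfsg Cfsg.Geo Cfsg.Agent.LieClassical.OrthCore Cfsg.Agent.H955 Cfsg.Agent.H954.TSing
open Cfsg.Agent.LieClassical.OmegaReindex
open Cfsg.Agent.H951 (fx cm Inv Irr)
open Cfsg.Agent.H884.El
open Cfsg.Agent.H708.O8 (I8 T8)
open Cfsg.Agent.H436 (Prim)
open scoped MatrixGroups Matrix

/-- two roots of the same quadratic polynomial which commute with an irreducible operator -/
theorem two_roots {F V : Type*} [Field F] [AddCommGroup V] [Module F V] [FiniteDimensional F V] {x A B : Module.End F V}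
    {W : Submodule F V} (hI : _root_.Cfsg.Agent.H951.Irr x W) (hA : A * x = x * A) (hB : B * x = x * B) (hAW : ∀ w ∈ W, A w ∈ W)
    (hBW : ∀ w ∈ W, B w ∈ W) {c d : F} (hA2 : ∀ w ∈ W, A (A w) = c • A w - d • w)
    (hB2 : ∀ w ∈ W, B (B w) = c • B w - d • w) :
    (∀ w ∈ W, A w = B w) ∨ (∀ w ∈ W, A w = c • w - B w) := by
  have hxA : ∀ v, A (x v) = x (A v) := fun v => LinearMap.congr_fun hA v
  have hxB : ∀ v, B (x v) = x (B v) := fun v => LinearMap.congr_fun hB v
  obtain ⟨P, hP⟩ := H118.BS.exists_poly hI hA hAW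
  have hBx : Commute B x := hB
  have hBP : ∀ v, B (Polynomial.aeval x P v) = Polynomial.aeval x P (B v) := by
    intro v
    have h1 : ∀ P : Polynomial F, Commute B (Polynomial.aeval x P) := by
      intro P
      induction P using Polynomial.induction_on' with
      | add p q hp hq => rw [map_add]; exact hp.add_right hq
      | monomial n c =>
        rw [Polynomial.aeval_monomial]
        exact (Algebra.commute_algebraMap_right c _).mul_right (hBx.pow_right n)
    exact LinearMap.congr_fun (h1 P) v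
  have hAB : ∀ w ∈ W, A (B w) = B (A w) := by
    intro w hw
    rw [hP w hw, hBP, ← hP _ (hBW w hw)]
  have hker : ∀ v, v ∈ LinearMap.ker (A + B - c • (1 : Module.End F V)) ↔ A v + B v - c • v = 0 := by
    intro v
    rw [LinearMap.mem_ker, LinearMap.sub_apply, LinearMap.add_apply, LinearMap.smul_apply, Module.End.one_apply]
  have hinv : _root_.Cfsg.Agent.H951.Inv x (W ⊓ LinearMap.ker (A + B - c • (1 : Module.End F V))) := by
    intro w hw
    obtain ⟨hw, hw2⟩ := Submodule.mem_inf.1 hw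
    rw [hker] at hw2
    refine Submodule.mem_inf.2 ⟨hI.2.1 w hw, ?_⟩
    rw [hker, hxA, hxB, ← map_add, ← map_smul, ← map_sub, hw2, map_zero]
  rcases hI.2.2 _ inf_le_left hinv with h | h
  · left
    intro w hw
    have h1 : A w - B w ∈ W ⊓ LinearMap.ker (A + B - c • (1 : Module.End F V)) := by
      refine Submodule.mem_inf.2 ⟨W.sub_mem (hAW w hw) (hBW w hw), ?_⟩
      rw [hker, map_sub, map_sub, hA2 w hw, hB2 w hw, hAB w hw, smul_sub]
      abel
    rw [h, Submodule.mem_bot] at h1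
    exact sub_eq_zero.1 h1
  · right
    intro w hw
    have h1 : w ∈ W ⊓ LinearMap.ker (A + B - c • (1 : Module.End F V)) := by rw [h]; exact hw
    have h2 := (hker w).1 (Submodule.mem_inf.1 h1).2
    rw [eq_sub_iff_add_eq]
    exact sub_eq_zero.1 h2

/-- a field of order `q²` contains a root of every irreducible quadratic polynomial -/
theorem exists_root {F : Type} [Field F] [Fintype F] {K : Subalgebra F (Matrix I8 I8 F)} (hK : IsFieldSubalgebra 2 K)
    {c d : F} (hirr : ∀ z : F, z * z - c * z + d ≠ 0) : ∃ j ∈ K, j * j = c • j - d • (1 : Matrix I8 I8 F) := by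
  let _ : Field K := (H912.isField_of_fieldSub hK).toField
  have hKfin : Finite K := Module.finite_of_finite F
  let P : Polynomial F := Polynomial.X ^ 2 - Polynomial.C c * Polynomial.X + Polynomial.C d
  have hdeg : P.natDegree = 2 := by
    simp only [P]
    compute_degree!
  have hmon : P.Monic := by
    simp only [P]
    monicity!
  have hP : Irreducible P := by
    rw [Polynomial.Monic.irreducible_iff_roots_eq_zero_of_degree_le_three hmon (by omega) (by omega)]
    rw [Multiset.eq_zero_iff_forall_notMem]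
    intro z hz
    have h1 := (Polynomial.mem_roots'.1 hz).2
    apply hirr z
    rw [Polynomial.IsRoot.def] at h1
    simp only [P, Polynomial.eval_add, Polynomial.eval_sub, Polynomial.eval_pow, Polynomial.eval_X, Polynomial.eval_mul,
      Polynomial.eval_C] at h1
    rw [← h1]
    ring
  have := Fact.mk hP
  have hfin : Module.finrank F (AdjoinRoot P) = 2 := by
    rw [(AdjoinRoot.powerBasis hP.ne_zero).finrank, AdjoinRoot.powerBasis_dim, hdeg]
  obtain ⟨φ⟩ := FiniteField.nonempty_algHom_of_finrank_dvd (F := F) (K := AdjoinRoot P) (L := K) (by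
    rw [hfin, hK.finrank_eq])
  let j : K := φ (AdjoinRoot.root P)
  have hj : j * j = c • j - d • (1 : K) := by
    have h1 : Polynomial.aeval j P = 0 := by
      simp only [j]
      rw [Polynomial.aeval_algHom_apply]
      have h2 : Polynomial.aeval (AdjoinRoot.root P) P = 0 := by
        rw [AdjoinRoot.aeval_eq, AdjoinRoot.mk_self]
      rw [h2, map_zero]
    simp only [P, map_add, map_sub, map_pow, map_mul, Polynomial.aeval_X, Polynomial.aeval_C] at h1
    rw [Algebra.smul_def, Algebra.smul_def, mul_one]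
    linear_combination h1
  exact ⟨j, j.2, congrArg Subtype.val hj⟩

section

variable {F : Type} [Field F] [Fintype F] {p a r k : ℕ} {x t z : GL I8 F} {J J' : Module.End F (I8 → F)} {c d : F}

theorem matl (A B : Matrix I8 I8 F) (v : I8 → F) : Matrix.toLin' (A * B) v = Matrix.toLin' A (Matrix.toLin' B v) := by
  rw [Matrix.toLin'_mul, LinearMap.comp_apply]

/-- commuting operators preserve `fx` and `cm` -/
theorem pres_fx {A B : Module.End F (I8 → F)} (h : ∀ v, A (B v) = B (A v)) {v : I8 → F} (hv : v ∈ fx B) : A v ∈ fx B := by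
  rw [H951.mem_fx] at hv ⊢
  rw [← h, hv]

theorem pres_cm {A B : Module.End F (I8 → F)} (h : ∀ v, A (B v) = B (A v)) {v : I8 → F} (hv : v ∈ cm B) : A v ∈ cm B := by
  obtain ⟨w, rfl⟩ := H951.mem_cm.1 hv
  rw [map_sub, h]
  exact H951.mem_cm.2 ⟨_, rfl⟩

theorem Fld.app (f : Fld J c d) (v : I8 → F) : J (J v) = c • J v - d • v := LinearMap.congr_fun f.sq v

theorem comm_zpow (b : Base x t z r) {A : Module.End F (I8 → F)} (h : A * lin x = lin x * A) :
    A * lin z = lin z * A := by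
  obtain ⟨n, hn⟩ := b.z_eq
  rw [hn, lin_pow]
  exact (show Commute A (lin x) from h).pow_right n

/-- **`H` normalises a field of order `q²`: it is `F[J]` or `F[J']`.** -/
theorem ext_case (b : Base x t z r) (f : Two x t J J' c d) {K : Subalgebra F (Matrix I8 I8 F)}
    (hK : IsFieldSubalgebra 2 K) {H : Subgroup (GL I8 F)} (hxH : x ∈ H) (htH : t ∈ H)
    (hHK : H ≤ subalgebraNormalizer K) : H ≤ NJ J c ∨ H ≤ NJ J' c := by
  have hzH : z ∈ H := by
    obtain ⟨n, rfl⟩ := b.z_eq
    exact Subgroup.pow_mem _ hxH n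
  have hr2 : r ≠ 2 := by
    have := b.pp.lt (by norm_num)
    omega
  have hcz := comm_field Nat.prime_two hK (hHK hzH) b.pp.prime hr2 b.z_pow
  -- a root in `K`
  obtain ⟨j₀, hj₀, hj₀2⟩ := exists_root hK f.fJ.irr
  -- elements of `K` act as field elements
  have hKz : ∀ m ∈ K, ∀ v, v ≠ 0 → Matrix.toLin' m v = 0 → m = 0 := by
    intro m hm v hv hmv
    by_contra hne
    obtain ⟨n, hn, hmn⟩ := hK.inv m hm hne
    rw [hK.comm m hm n hn] at hmn
    apply hv
    have h1 : v = Matrix.toLin' (n * m) v := by rw [hmn, Matrix.toLin'_one]; rfl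
    rw [h1, matl, hmv, map_zero]
  have key : ∀ j ∈ K, j * j = c • j - d • (1 : Matrix I8 I8 F) → (∀ v ∈ cm (lin x), Matrix.toLin' j v = J v) →
      (∀ v, Matrix.toLin' j v = J v) ∨ (∀ v, Matrix.toLin' j v = J' v) := by
    intro j hj hj2 h6
    have hjj : ∀ v, Matrix.toLin' j (Matrix.toLin' j v) = c • Matrix.toLin' j v - d • v := by
      intro v
      rw [← matl, hj2, map_sub, _root_.LinearEquiv.map_smul, _root_.LinearEquiv.map_smul, Matrix.toLin'_one]
      rfl
    -- `t` commutes with `j`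
    have htj : ∀ v, Matrix.toLin' j (lin t v) = lin t (Matrix.toLin' j v) := by
      have h1 : (t : Matrix I8 I8 F) * j * ((t⁻¹ : GL I8 F) : Matrix I8 I8 F) ∈ K := ((hHK htH) j).1 hj
      have h2 := K.sub_mem h1 hj
      obtain ⟨v, hv, hv0⟩ := (Submodule.ne_bot_iff _).1 b.irr6.1
      have h3 : (t : Matrix I8 I8 F) * j * ((t⁻¹ : GL I8 F) : Matrix I8 I8 F) - j = 0 := by
        refine hKz _ h2 v hv0 ?_
        have h4 : lin t⁻¹ v = v := by
          have h5 : lin t v = v := by
            rw [← H951.mem_fx, b.tV]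
            exact hv
          conv_lhs => rw [← h5]
          exact lin_inv_apply t v
        have h6' : lin t (J v) = J v := by
          rw [← H951.mem_fx, b.tV]
          exact pres_cm (fun v => LinearMap.congr_fun f.cx v) hv
        rw [map_sub, LinearMap.sub_apply, matl, matl]
        change lin t (Matrix.toLin' j (lin t⁻¹ v)) - _ = 0
        rw [h4, h6 v hv, h6', sub_self]
      intro v
      have h7 : (t : Matrix I8 I8 F) * j = j * (t : Matrix I8 I8 F) := by
        have h8 := sub_eq_zero.1 h3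
        calc (t : Matrix I8 I8 F) * j = (t : Matrix I8 I8 F) * j * (((t⁻¹ : GL I8 F) : Matrix I8 I8 F) *
            (t : Matrix I8 I8 F)) := by rw [← Units.val_mul, inv_mul_cancel, Units.val_one, Matrix.mul_one]
          _ = _ := by rw [← Matrix.mul_assoc, h8]
      rw [lin, ← matl, ← matl, h7]
    -- on `W`
    have hW : ∀ {A : Module.End F (I8 → F)}, (∀ v, A (lin t v) = lin t (A v)) → ∀ w ∈ fx (lin x), A w ∈ fx (lin x) := by
      intro A hA w hw
      rw [← b.tW] at hw ⊢
      exact pres_cm hA hw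
    have hct : ∀ v, J (lin t v) = lin t (J v) := fun v => LinearMap.congr_fun f.ct v
    rcases two_roots b.irr2 (A := Matrix.toLin' j) (B := J) (LinearMap.ext htj) f.ct (hW htj) (hW hct)
      (c := c) (d := d) (fun w _ => hjj w) (fun w _ => f.fJ.app w) with h2 | h2
    · left
      intro v
      have h3 : v ∈ fx (lin x) ⊔ cm (lin x) := by rw [b.compl.sup_eq_top]; exact Submodule.mem_top
      obtain ⟨u, hu, u', hu', rfl⟩ := Submodule.mem_sup.1 h3
      rw [map_add, map_add, h2 u hu, h6 u' hu']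
    · right
      intro v
      have h3 : v ∈ fx (lin x) ⊔ cm (lin x) := by rw [b.compl.sup_eq_top]; exact Submodule.mem_top
      obtain ⟨u, hu, u', hu', rfl⟩ := Submodule.mem_sup.1 h3
      rw [map_add, map_add, h2 u hu, h6 u' hu', f.conj u hu, f.agree u' hu']
  -- a root which agrees with `J` on `V₆`
  have hex : ∃ j ∈ K, j * j = c • j - d • (1 : Matrix I8 I8 F) ∧ ∀ v ∈ cm (lin x), Matrix.toLin' j v = J v := by
    have hjj : ∀ v, Matrix.toLin' j₀ (Matrix.toLin' j₀ v) = c • Matrix.toLin' j₀ v - d • v := by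
      intro v
      rw [← matl, hj₀2, map_sub, _root_.LinearEquiv.map_smul, _root_.LinearEquiv.map_smul, Matrix.toLin'_one]
      rfl
    have hjz : ∀ v, Matrix.toLin' j₀ (lin z v) = lin z (Matrix.toLin' j₀ v) := by
      intro v
      rw [lin, ← matl, ← matl, hcz j₀ hj₀]
    have hJz := comm_zpow b f.cx
    have hV : ∀ {A : Module.End F (I8 → F)}, (∀ v, A (lin z v) = lin z (A v)) → ∀ w ∈ cm (lin x), A w ∈ cm (lin x) := by
      intro A hA w hw
      rw [← b.cmz] at hw ⊢
      exact pres_cm hA hw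
    rcases two_roots b.irr6 (A := Matrix.toLin' j₀) (B := J) (LinearMap.ext hjz) hJz (hV hjz)
      (hV fun v => LinearMap.congr_fun hJz v) (c := c) (d := d) (fun w _ => hjj w) (fun w _ => f.fJ.app w) with h2 | h2
    · exact ⟨j₀, hj₀, hj₀2, h2⟩
    · refine ⟨c • (1 : Matrix I8 I8 F) - j₀, K.sub_mem (K.smul_mem K.one_mem c) hj₀, ?_, ?_⟩
      · rw [sub_mul, mul_sub, mul_sub, hj₀2]
        simp only [Matrix.smul_mul, Matrix.mul_smul, Matrix.one_mul, Matrix.mul_one, smul_sub]
        abel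
      · intro v hv
        rw [map_sub, _root_.LinearEquiv.map_smul, Matrix.toLin'_one, LinearMap.sub_apply, h2 v hv]
        change c • v - _ = _
        abel
  obtain ⟨j, hj, hj2, h6⟩ := hex
  -- the normaliser
  have hN : ∀ {J₁ : Module.End F (I8 → F)}, (∀ v, Matrix.toLin' j v = J₁ v) → H ≤ NJ J₁ c := by
    intro J₁ h1 g hg
    have h2 : (g : Matrix I8 I8 F) * j * ((g⁻¹ : GL I8 F) : Matrix I8 I8 F) ∈ K := ((hHK hg) j).1 hj
    have hgi : ((g⁻¹ : GL I8 F) : Matrix I8 I8 F) * (g : Matrix I8 I8 F) = 1 := by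
      rw [← Units.val_mul, inv_mul_cancel, Units.val_one]
    have hgi' : (g : Matrix I8 I8 F) * ((g⁻¹ : GL I8 F) : Matrix I8 I8 F) = 1 := by
      rw [← Units.val_mul, mul_inv_cancel, Units.val_one]
    obtain ⟨m, hm⟩ : ∃ m, m = (g : Matrix I8 I8 F) * j * ((g⁻¹ : GL I8 F) : Matrix I8 I8 F) := ⟨_, rfl⟩
    rw [← hm] at h2
    have hmg : m * (g : Matrix I8 I8 F) = (g : Matrix I8 I8 F) * j := by
      rw [hm, Matrix.mul_assoc, hgi, Matrix.mul_one]
    have hm2 : m * m = c • m - d • (1 : Matrix I8 I8 F) := by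
      have h3 : m * m = (g : Matrix I8 I8 F) * (j * j) * ((g⁻¹ : GL I8 F) : Matrix I8 I8 F) := by
        rw [hm]
        calc (g : Matrix I8 I8 F) * j * ((g⁻¹ : GL I8 F) : Matrix I8 I8 F) * ((g : Matrix I8 I8 F) * j *
              ((g⁻¹ : GL I8 F) : Matrix I8 I8 F)) = (g : Matrix I8 I8 F) * j * (((g⁻¹ : GL I8 F) : Matrix I8 I8 F) *
              (g : Matrix I8 I8 F)) * j * ((g⁻¹ : GL I8 F) : Matrix I8 I8 F) := by simp only [Matrix.mul_assoc]
          _ = _ := by rw [hgi, Matrix.mul_one]; simp only [Matrix.mul_assoc]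
      rw [h3, hj2, Matrix.mul_sub, Matrix.sub_mul, Matrix.mul_smul, Matrix.smul_mul, ← hm, Matrix.mul_smul,
        Matrix.mul_one, Matrix.smul_mul, hgi']
    have h4 : (m - j) * (m + j - c • (1 : Matrix I8 I8 F)) = 0 := by
      have h5 := hK.comm m h2 j hj
      calc (m - j) * (m + j - c • (1 : Matrix I8 I8 F)) = (m * m - c • m) - (j * j - c • j) + (m * j - j * m) := by
            simp only [Matrix.sub_mul, Matrix.mul_sub, Matrix.mul_add, Matrix.mul_smul, Matrix.mul_one, smul_sub]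
            abel
        _ = 0 := by rw [hm2, hj2, h5]; abel
    have hgv : ∀ v, lin g (J₁ v) = Matrix.toLin' m (lin g v) := by
      intro v
      rw [← h1, lin, ← matl, ← matl, hmg]
    by_cases h5 : m - j = 0
    · left
      intro v
      rw [hgv, sub_eq_zero.1 h5, h1]
    · right
      intro v
      obtain ⟨n, hn, hmn⟩ := hK.inv _ (K.sub_mem h2 hj) h5
      rw [hK.comm _ (K.sub_mem h2 hj) n hn] at hmn
      have h6 : m + j - c • (1 : Matrix I8 I8 F) = 0 := by
        have h7 := congrArg (fun y => n * y) h4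
        beta_reduce at h7
        rwa [← Matrix.mul_assoc, hmn, Matrix.one_mul, Matrix.mul_zero] at h7
      have h8 : m = c • (1 : Matrix I8 I8 F) - j := by
        rw [eq_sub_iff_add_eq]
        exact sub_eq_zero.1 h6
      rw [hgv, h8, map_sub, _root_.LinearEquiv.map_smul, Matrix.toLin'_one, LinearMap.sub_apply, h1]
      rfl
  rcases key j hj hj2 h6 with h1 | h1
  · exact Or.inl (hN h1)
  · exact Or.inr (hN h1)

end

end Cfsg.Agent.H823.O8S
end

-- part: H823/O8S/Geo
section
/-!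
# S3938-OPLUS8: overgroups of `x`, `t`: the geometric classes (helper823)
-/

set_option autoImplicit false
set_option linter.unusedSectionVars false

namespace Cfsg.Agent.H823.O8S

open Module QuadraticMap Cfsg Cfsg.Geo Cfsg.Agent.LieClassical.OrthCore Cfsg.Agent.H955 Cfsg.Agent.H954.TSing
open Cfsg.Agent.LieClassical.OmegaReindex
open Cfsg.Agent.H951 (fx cm Inv Irr)
open Cfsg.Agent.H884.El
open Cfsg.Agent.H708.O8 (I8 T8)
open Cfsg.Agent.H436 (Prim)
open scoped MatrixGroups Matrix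

variable {F : Type} [Field F] [Fintype F] {p a r k : ℕ} {x t z : GL I8 F} {J J' : Module.End F (I8 → F)} {c d : F}

theorem iso_of_mem {g : GL I8 F} (hg : g ∈ isometryGroup F (quadFormPlus 4 F)) (v : I8 → F) :
    quadFormPlus 4 F (lin g v) = quadFormPlus 4 F v := by
  have h : isometryGroup F (quadFormPlus 4 F) ≤ isometryGroup F (⇑(quadPlus 4 F)) := by rw [coe_quadPlus]
  have := lin_iso h hg v
  rwa [coe_quadPlus] at this

theorem nondeg8 {v : I8 → F} (h : ∀ u, polar (quadFormPlus 4 F) u v = 0) : v = 0 := by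
  have h2 : (polarBilin (quadPlus 4 F)).Nondegenerate := quadPlus_nondegenerate
  exact h2.2 v (fun u => by
    rw [polarBilin_apply_apply, coe_quadPlus]
    exact h u)

theorem polar_add_left8 (u u' v : I8 → F) : polar (quadFormPlus 4 F) (u + u') v =
    polar (quadFormPlus 4 F) u v + polar (quadFormPlus 4 F) u' v := by
  rw [← coe_quadPlus]
  exact polar_add_left (quadPlus 4 F) u u' v

theorem polar_comm8 (u v : I8 → F) : polar (quadFormPlus 4 F) u v = polar (quadFormPlus 4 F) v u :=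
  polar_comm _ u v

/-- `W = V₆^⊥` -/
theorem Base.mem_fx_of_perp (b : Base x t z r) {u : I8 → F}
    (h : ∀ v ∈ cm (lin x), polar (quadFormPlus 4 F) u v = 0) : u ∈ fx (lin x) := by
  have h3 : u ∈ fx (lin x) ⊔ cm (lin x) := by rw [b.compl.sup_eq_top]; exact Submodule.mem_top
  obtain ⟨u1, hu1, u2, hu2, rfl⟩ := Submodule.mem_sup.1 h3
  have h4 : u2 = 0 := by
    refine nondeg8 fun v => ?_
    have h5 : v ∈ fx (lin x) ⊔ cm (lin x) := by rw [b.compl.sup_eq_top]; exact Submodule.mem_top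
    obtain ⟨v1, hv1, v2, hv2, rfl⟩ := Submodule.mem_sup.1 h5
    rw [polar_add_left8, b.perp v1 hv1 u2 hu2, zero_add]
    have h6 := h v2 hv2
    rw [polar_add_left8, b.perp u1 hu1 v2 hv2, zero_add] at h6
    rw [polar_comm8]
    exact h6
  rw [h4, add_zero]
  exact hu1

theorem le_SW {H : Subgroup (GL I8 F)} {W : Submodule F (I8 → F)} (h : ∀ g ∈ H, ∀ w ∈ W, lin g w ∈ W) : H ≤ SW W := by
  intro g hg
  rw [mem_SW]
  apply le_antisymm
  · rintro _ ⟨w, hw, rfl⟩
    exact h g hg w hw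
  · intro w hw
    exact ⟨lin g⁻¹ w, h _ (H.inv_mem hg) w hw, lin_apply_inv g w⟩

/-- the subspaces invariant under `x` and `t` -/
theorem Base.inv_cases (b : Base x t z r) {U : Submodule F (I8 → F)} (hz : _root_.Cfsg.Agent.H951.Inv (lin z) U) (ht : _root_.Cfsg.Agent.H951.Inv (lin t) U) :
    U = ⊥ ∨ U = fx (lin x) ∨ U = cm (lin x) ∨ U = ⊤ := by
  have hr0 : (r : F) ≠ 0 := b.pp.ne0 (by norm_num)
  have hzr : lin z ^ r = 1 := by rw [← lin_pow, b.z_pow, lin_one]
  have h1 := H951.inf_fx_sup_inf_cm hr0 hzr hz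
  rw [b.fxz, b.cmz] at h1
  have h2 : U ⊓ cm (lin x) = ⊥ ∨ U ⊓ cm (lin x) = cm (lin x) :=
    b.irr6.2.2 _ inf_le_right (hz.inf b.irr6.2.1)
  have h3 : U ⊓ fx (lin x) = ⊥ ∨ U ⊓ fx (lin x) = fx (lin x) :=
    b.irr2.2.2 _ inf_le_right (ht.inf b.irr2.2.1)
  rcases h2 with h2 | h2 <;> rcases h3 with h3 | h3 <;> rw [h2, h3] at h1
  · left; rw [← h1, bot_sup_eq]
  · right; left; rw [← h1, sup_bot_eq]
  · right; right; left; rw [← h1, bot_sup_eq]
  · right; right; right; rw [← h1, b.compl.sup_eq_top]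

/-- **reducible overgroups** -/
theorem red_case (b : Base x t z r) {H : Subgroup (GL I8 F)} (hH : H ≤ isometryGroup F (quadFormPlus 4 F)) (hx : x ∈ H)
    (ht : t ∈ H) (hirr : ¬ ActsIrreducibly (matrixSet H)) : H ≤ SW (fx (lin x)) := by
  unfold ActsIrreducibly at hirr
  push Not at hirr
  obtain ⟨U, hU, hU1, hU2⟩ := hirr
  have hinv : ∀ g ∈ H, ∀ u ∈ U, lin g u ∈ U := fun g hg u hu =>
    hU _ ⟨g, hg, rfl⟩ ⟨u, hu, rfl⟩
  have hzH : z ∈ H := by
    obtain ⟨n, rfl⟩ := b.z_eq
    exact Subgroup.pow_mem _ hx n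
  rcases b.inv_cases (hinv z hzH) (hinv t ht) with h | h | h | h
  · exact absurd h hU1
  · rw [← h]
    exact le_SW hinv
  · refine le_SW fun g hg u hu => b.mem_fx_of_perp fun v hv => ?_
    have h1 : polar (quadFormPlus 4 F) (lin g u) v = polar (quadFormPlus 4 F) u (lin g⁻¹ v) := by
      have h2 : ∀ v, quadFormPlus 4 F (lin g v) = quadFormPlus 4 F v := iso_of_mem (hH hg)
      rw [← polar_iso' h2 u (lin g⁻¹ v), lin_apply_inv]
    rw [h1]
    refine b.perp u hu _ ?_
    rw [← h] at hv ⊢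
    exact hinv _ (H.inv_mem hg) v hv
  · exact absurd h hU2

/-- what remains in the monomial class -/
def Mono (H : Subgroup (GL I8 F)) : Prop :=
  ∃ D : Fin 8 → Submodule F (I8 → F), IsOrthogonalMDecomposition (quadFormPlus 4 F) 1 D ∧ H ≤ decompositionStabilizer D

/-- what remains in the class of normalisers of groups of symplectic type -/
def SympT (H : Subgroup (GL I8 F)) : Prop :=
  ∃ R : Subgroup (GL I8 F), R ≤ H ∧ H ≤ subgroupNormalizer R ∧ ActsAbsolutelyIrreducibly (matrixSet R) ∧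
    IsSymplecticTypeGroup 2 R ∧
    ((Odd 2 ∧ Nat.card (Subgroup.center R) = 2 ∧ Nat.card R = 2 ^ (1 + 2 * 3)) ∨
     (2 = 2 ∧ Nat.card (Subgroup.center R) = 4 ∧ Nat.card R = 2 ^ (2 + 2 * 3)) ∨
     (2 = 2 ∧ Nat.card (Subgroup.center R) = 2 ∧ Nat.card R = 2 ^ (1 + 2 * 3)))

theorem card_I8 : Fintype.card I8 = 8 := by simp

/-- **the geometric classes** (also for `q = 5`) -/
theorem geo_row0 (hF : Nat.card F = p ^ a) (h : RW p a r k) (b : Base x t z r) (f : Two x t J J' c d)
    {H : Subgroup (GL I8 F)} (hH : H ≤ isometryGroup F (quadFormPlus 4 F)) (hx : x ∈ H) (ht : t ∈ H) :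
    H ≤ SW (fx (lin x)) ∨ H ≤ NJ J c ∨ H ≤ NJ J' c ∨ InOrthogonalResidualClass H ∨ (r = 7 ∧ Mono H) ∨
      (r = 7 ∧ SympT H) := by
  have hne : Nonempty I8 := ⟨Sum.inl 0⟩
  by_cases hirr : ActsIrreducibly (matrixSet H)
  swap
  · exact Or.inl (red_case b hH hx ht hirr)
  have hzH : z ∈ H := by
    obtain ⟨n, rfl⟩ := b.z_eq
    exact Subgroup.pow_mem _ hx n
  have hfin : Finite (GL I8 F) := inferInstance
  have hrH : r ∣ Nat.card H := by
    have h1 : orderOf (⟨z, hzH⟩ : H) = r := by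
      have : Fact r.Prime := ⟨b.pp.prime⟩
      refine orderOf_eq_prime (Subtype.ext b.z_pow) fun h0 => b.z_ne (congrArg Subtype.val h0)
    rw [← h1]
    exact orderOf_dvd_natCard _
  have hr := b.pp
  have h7 : 6 < r := hr.lt (by norm_num)
  have hq := one_lt_q F
  have hH' : H ≤ isometryGroup F (⇑(quadPlus 4 F)) := by rw [coe_quadPlus]; exact hH
  have hND : IsNondegenerateQuadraticForm (⇑(quadPlus 4 F)) :=
    Cfsg.Agent.H884.OddForm.isNondegenerate_of_nondeg (quadPlus 4 F) (nondeg_iff.2 quadPlus_nondegenerate)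
  rcases Cfsg.Agent.H925.orth_irreducible_fine (by rw [card_I8]; norm_num) hND hH' hirr with
    ⟨t', k', D, htk, hD, hHD, -⟩ | ⟨k', D, hk, hD, -, hHD⟩ | ⟨s, K, hs, hsn, hK, -, hHK⟩ |
    ⟨n₁, n₂, e, P, -, -, -, h1, h2, h12, -, -, -, -, hHT⟩ | ⟨F₁, s, B, -, -, hs, hcard, -, -, hHF⟩ |
    ⟨s, m, R, hRH, -, hHR, habs, hR, -, hm, hsm, -, ht', -⟩ | ⟨k', t', e, P, E, hkt, hW⟩ | hS
  · -- (C2a)
    rw [card_I8] at htk
    have h2t := hD.decomp.decomp.two_le
    have hkd : k' < 6 := by
      by_contra hcon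
      push Not at hcon
      have := Nat.mul_le_mul h2t hcon
      omega
    have hrt := decomp_le hD.decomp.decomp hHD hr hkd hrH
    have hk1 : k' = 1 := by
      have h3 : k' < 2 := by
        by_contra hcon
        push Not at hcon
        have := Nat.mul_le_mul hrt hcon
        omega
      have := hD.decomp.decomp.pos
      omega
    subst hk1
    obtain rfl : t' = 8 := by omega
    right; right; right; right; left
    refine ⟨?_, D, ?_, hHD⟩
    · have h8 : r ≠ 8 := by
        intro h0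
        have := hr.prime
        rw [h0] at this
        exact absurd this (by norm_num)
      omega
    · rw [← coe_quadPlus]
      exact hD
  · -- (C2b)
    exfalso
    rw [card_I8] at hk
    have := decomp_le hD hHD hr (by omega) hrH
    omega
  · -- (C3)
    rw [card_I8] at hsn
    have hs2 : s = 2 := by
      have h3 : s ∣ 2 ^ 3 := by norm_num; exact hsn
      exact (Nat.prime_dvd_prime_iff_eq hs Nat.prime_two).1 (hs.dvd_of_dvd_pow h3)
    subst hs2
    rcases ext_case b f hK hx ht hHK with h3 | h3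
    · exact Or.inr (Or.inl h3)
    · exact Or.inr (Or.inr (Or.inl h3))
  · exact absurd (kill_tensor e P hHT h1 h2 h12 hr (by rw [card_I8]; norm_num) hrH) id
  · have hrp : PP p (a * 6) r := by
      rw [mul_comm]
      exact prim_pp h.hp.one_le h.prim
    exact absurd (kill_subfield hHF hs hcard h.hp hF hrp (by rw [card_I8]; norm_num) (by norm_num) hrH) id
  · -- (C6)
    right; right; right; right; right
    have h3 := symp_le hHR habs hR hm hsm ht' hr (by norm_num) hrH
    rw [card_I8] at h3 hsm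
    have hs2 : s = 2 := by
      have h4 : s ∣ 2 ^ 3 := by
        have h5 : (2 : ℕ) ^ 3 = s ^ m := by rw [← hsm]; norm_num
        rw [h5]
        exact dvd_pow_self s (by omega)
      exact (Nat.prime_dvd_prime_iff_eq hR.prime Nat.prime_two).1 (hR.prime.dvd_of_dvd_pow h4)
    subst hs2
    have hm3 : m = 3 := by
      have h5 : (2 : ℕ) ^ m = 2 ^ 3 := by rw [← hsm]; norm_num
      exact Nat.pow_right_injective (le_refl 2) h5
    subst hm3
    refine ⟨?_, R, hRH, hHR, habs, hR, ht'⟩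
    have h8 : r ≠ 8 := by
      intro h0
      have := hr.prime
      rw [h0] at this
      exact absurd this (by norm_num)
    have h9 : r ≠ 9 := by
      intro h0
      have := hr.prime
      rw [h0] at this
      exact absurd this (by norm_num)
    omega
  · exact absurd (kill_wreath hW hkt hr (by rw [card_I8]; norm_num) hrH) id
  · exact Or.inr (Or.inr (Or.inr (Or.inl hS)))

/-- no element of order `49` in the monomial group -/
theorem mono_kill (hx : orderOf x = 49) (h7 : ¬ 7 ∣ Nat.card F - 1) {H : Subgroup (GL I8 F)} (hxH : x ∈ H)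
    (h : Mono H) : False := by
  obtain ⟨D, hD, hHD⟩ := h
  have hd := hD.decomp.decomp
  have hinj : Function.Injective D := by
    intro i j hij
    by_contra hne
    have h1 := hd.indep.pairwiseDisjoint hne
    rw [Function.onFun, hij, disjoint_self] at h1
    have h2 := hd.finrank_eq j
    rw [h1, finrank_bot] at h2
    omega
  obtain ⟨σ, hσ⟩ := hHD hxH
  have hmap : ∀ j : ℕ, ∀ i, (D i).map (Matrix.toLin' ((x ^ j : GL I8 F) : Matrix I8 I8 F)) = D ((σ ^ j) i) := by
    intro j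
    induction j with
    | zero => intro i; simp
    | succ j ih =>
      intro i
      rw [pow_succ', Units.val_mul, Matrix.toLin'_mul, Submodule.map_comp, ih, hσ, pow_succ', Equiv.Perm.mul_apply]
  have hσ49 : σ ^ 49 = 1 := by
    apply Equiv.ext
    intro i
    apply hinj
    rw [← hmap, ← hx, pow_orderOf_eq_one, Units.val_one, Matrix.toLin'_one, Submodule.map_id]
    rfl
  have hσ7 : σ ^ 7 = 1 := by
    have h1 : orderOf σ ∣ 7 ^ 2 := orderOf_dvd_of_pow_eq_one hσ49
    obtain ⟨i, hi, hi2⟩ := (Nat.dvd_prime_pow (by norm_num : Nat.Prime 7)).1 h1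
    have h2 : orderOf σ ∣ 40320 := by
      have h3 := orderOf_dvd_natCard σ
      rw [Nat.card_eq_fintype_card, Fintype.card_perm, Fintype.card_fin] at h3
      exact h3.trans (by decide)
    have h3 : i ≤ 1 := by
      by_contra hcon
      obtain rfl : i = 2 := by omega
      rw [hi2] at h2
      revert h2
      decide
    rw [← orderOf_dvd_iff_pow_eq_one, hi2]
    exact (pow_dvd_pow 7 h3).trans (by norm_num)
  -- `x ^ 7` is the identity on every `D i`
  have hone : ∀ i, ∀ v ∈ D i, lin (x ^ 7) v = v := by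
    intro i v hv
    by_cases hv0 : v = 0
    · rw [hv0, map_zero]
    have h1 := hmap 7 i
    rw [hσ7, Equiv.Perm.one_apply] at h1
    have h2 : lin (x ^ 7) v ∈ D i := by
      rw [← h1]
      exact ⟨v, hv, rfl⟩
    obtain ⟨c, hc⟩ := (finrank_eq_one_iff_of_nonzero' (⟨v, hv⟩ : D i) (fun h0 => hv0 (congrArg Subtype.val h0))).1
      (hd.finrank_eq i) ⟨lin (x ^ 7) v, h2⟩
    have hc' : lin (x ^ 7) v = c • v := (congrArg Subtype.val hc).symm
    have hpow : ∀ n : ℕ, (lin (x ^ 7) ^ n) v = c ^ n • v := by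
      intro n
      induction n with
      | zero => simp
      | succ n ih => rw [pow_succ', Module.End.mul_apply, ih, map_smul, hc', smul_smul, pow_succ]
    have hc7 : c ^ 7 = 1 := by
      have h5 := hpow 7
      rw [← lin_pow, ← pow_mul, show 7 * 7 = 49 by norm_num, ← hx, pow_orderOf_eq_one, lin_one,
        Module.End.one_apply] at h5
      have h6 : (c ^ 7 - 1) • v = 0 := by rw [sub_smul, one_smul, ← h5, sub_self]
      exact sub_eq_zero.1 ((smul_eq_zero.1 h6).resolve_right hv0)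
    have hc0 : c ≠ 0 := by
      rintro rfl
      norm_num at hc7
    have hcq : c ^ (Nat.card F - 1) = 1 := by
      rw [Nat.card_eq_fintype_card]
      exact FiniteField.pow_card_sub_one_eq_one c hc0
    have hc1 : c = 1 := by
      have h3 : orderOf c ∣ 7 := orderOf_dvd_of_pow_eq_one hc7
      rcases (Nat.dvd_prime (by norm_num : Nat.Prime 7)).1 h3 with h4 | h4
      · exact orderOf_eq_one_iff.1 h4
      · exact absurd (h4 ▸ orderOf_dvd_of_pow_eq_one hcq) h7
    rw [hc', hc1, one_smul]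
  have h1 : x ^ 7 = 1 := by
    apply lin_injective
    rw [lin_one]
    refine LinearMap.ext fun v => ?_
    have hv : v ∈ (⨆ i, D i) := by rw [hd.iSup_eq_top]; exact Submodule.mem_top
    refine Submodule.iSup_induction D (motive := fun v => lin (x ^ 7) v = (1 : Module.End F (I8 → F)) v) hv ?_ ?_ ?_
    · intro i v hv
      exact hone i v hv
    · rw [map_zero, map_zero]
    · intro u v hu hv
      rw [map_add, hu, hv, map_add]
  have h2 := orderOf_dvd_of_pow_eq_one h1
  rw [hx] at h2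
  revert h2
  decide

/-- no element of order `r ^ k` normalises a group of symplectic type -/
theorem symp_kill (hF : Nat.card F = p ^ a) (h : RK p a r k) (hx : orderOf x = r ^ k) {H : Subgroup (GL I8 F)}
    (hxH : x ∈ H) (hS : SympT H) : False := by
  have hne : Nonempty I8 := ⟨Sum.inl 0⟩
  have hfin : Finite (GL I8 F) := inferInstance
  obtain ⟨R, hRH, hHR, habs, hR, ht⟩ := hS
  obtain ⟨C⟩ := H708.O8.exists_coord_of habs hR (m := 3) (by norm_num) (by rw [card_I8]; norm_num) ht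
  have h1 := H708.O8.card_dvd_of_coord Nat.prime_two habs C hHR
  have hN : r ^ k ∣ Nat.card H := by
    have h1 : orderOf (⟨x, hxH⟩ : H) = r ^ k := by rw [Subgroup.orderOf_mk, hx]
    rw [← h1]
    exact orderOf_dvd_natCard _
  have hr := h.prim.prime
  have h7 := h.seven
  have hc1 : Nat.Coprime (r ^ k) (Nat.card R) := by
    obtain ⟨n, hn⟩ : ∃ n, Nat.card R = 2 ^ n := by
      rcases ht with h1 | h1 | h1
      · exact ⟨_, h1.2.2⟩
      · exact ⟨_, h1.2.2⟩
      · exact ⟨_, h1.2.2⟩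
    rw [hn]
    exact Nat.Coprime.pow _ _ ((Nat.coprime_primes hr Nat.prime_two).2 (by omega))
  have hc2 : Nat.Coprime (r ^ k) (Nat.card F - 1) := by
    apply Nat.Coprime.pow_left
    rw [hr.coprime_iff_not_dvd, hF, h.prim.dvd_iff]
    intro h1
    have h2 := Nat.le_of_dvd h.ha h1
    have h3 := h.ha
    omega
  have h2 := (Nat.Coprime.mul_right hc1 hc2).dvd_of_dvd_mul_left (hN.trans h1)
  rw [LieClassical.SympCount.card_symplecticGroup, ZMod.card] at h2
  have h3 : (2 : ℕ) ^ (3 ^ 2) * ∏ i ∈ Finset.range 3, (2 ^ (2 * (i + 1)) - 1) = 2 ^ 9 * 3 ^ 4 * (5 * 7) := by decide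
  rw [h3] at h2
  have c2 : Nat.Coprime (r ^ k) (2 ^ 9) := Nat.Coprime.pow _ _ ((Nat.coprime_primes hr Nat.prime_two).2 (by omega))
  have c3 : Nat.Coprime (r ^ k) (3 ^ 4) := Nat.Coprime.pow _ _ ((Nat.coprime_primes hr Nat.prime_three).2 (by omega))
  have h4 := (Nat.Coprime.mul_right c2 c3).dvd_of_dvd_mul_left h2
  rcases h.cases with ⟨h5, rfl⟩ | ⟨rfl, rfl⟩
  · rw [pow_one] at h4
    rcases hr.dvd_mul.1 h4 with h6 | h6
    · have := Nat.le_of_dvd (by norm_num) h6
      omega
    · have := Nat.le_of_dvd (by norm_num) h6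
      omega
  · norm_num at h4

/-- **the geometric classes**, `q ≥ 4`, `q ≠ 5` -/
theorem geo_row (hF : Nat.card F = p ^ a) (h : RK p a r k) (w : Wit x t (r ^ k)) (f : Two x t J J' c d)
    {H : Subgroup (GL I8 F)} (hH : H ≤ isometryGroup F (quadFormPlus 4 F)) (hx : x ∈ H) (ht : t ∈ H) :
    H ≤ SW (fx (lin x)) ∨ H ≤ NJ J c ∨ H ≤ NJ J' c ∨ InOrthogonalResidualClass H := by
  obtain ⟨z, b⟩ := base hF h w
  rcases geo_row0 hF h.weak b f hH hx ht with h1 | h1 | h1 | h1 | ⟨hr, h1⟩ | ⟨-, h1⟩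
  · exact Or.inl h1
  · exact Or.inr (Or.inl h1)
  · exact Or.inr (Or.inr (Or.inl h1))
  · exact Or.inr (Or.inr (Or.inr h1))
  · exfalso
    obtain ⟨-, hk⟩ : r = 7 ∧ k = 2 := by
      rcases h.cases with h2 | h2
      · omega
      · exact h2
    subst hr
    refine mono_kill (x := x) (by rw [w.x_ord, hk]; norm_num) ?_ hx h1
    rw [hF, h.prim.dvd_iff]
    intro h1
    have h2 := Nat.le_of_dvd h.ha h1
    have h3 := h.ha
    omega
  · exact (symp_kill hF h w.x_ord hx h1).elim

end Cfsg.Agent.H823.O8S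
end

-- part: H823/O8S/Kill
section
/-!
# S3938-OPLUS8: conjugates of `t` in the residual overgroups (helper823)
-/

set_option autoImplicit false
set_option linter.unusedSectionVars false

namespace Cfsg.Agent.H823.O8S

open Module QuadraticMap Cfsg Cfsg.Geo Cfsg.Agent.LieClassical.OrthCore Cfsg.Agent.H955 Cfsg.Agent.H954.TSing
open Cfsg.Agent.LieClassical.OmegaReindex
open Cfsg.Agent.H951 (fx cm Inv Irr)
open Cfsg.Agent.H884.El
open Cfsg.Agent.H708.O8 (I8 T8)
open Cfsg.Agent.H436 (Prim)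
open scoped MatrixGroups Matrix

variable {F : Type} [Field F] [Fintype F] {p a r k : ℕ} {x t z : GL I8 F} {J J' : Module.End F (I8 → F)} {c d : F}

theorem fx_conj (g y : GL I8 F) : fx (lin (g * y * g⁻¹)) = (fx (lin y)).map (lin g) := by
  ext v
  constructor
  · intro hv
    rw [H951.mem_fx] at hv
    refine ⟨lin g⁻¹ v, ?_, lin_apply_inv g v⟩
    change lin g⁻¹ v ∈ fx (lin y)
    rw [H951.mem_fx]
    rw [lin_mul_apply, lin_mul_apply] at hv
    have h1 := congrArg (lin g⁻¹) hv
    rwa [lin_inv_apply] at h1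
  · rintro ⟨u, hu, rfl⟩
    have hu' : lin y u = u := H951.mem_fx.1 hu
    rw [H951.mem_fx, lin_mul_apply, lin_mul_apply, lin_inv_apply, hu']

theorem lin_inj (g : GL I8 F) : Function.Injective (lin g) := by
  intro u v h
  have := congrArg (lin g⁻¹) h
  rwa [lin_inv_apply, lin_inv_apply] at this

theorem finrank_fx_conj (g y : GL I8 F) : finrank F (fx (lin (g * y * g⁻¹))) = finrank F (fx (lin y)) := by
  rw [fx_conj]
  exact H955.finrank_map_of_injective _ (lin_inj g)

theorem cm_conj (g y : GL I8 F) : cm (lin (g * y * g⁻¹)) = (cm (lin y)).map (lin g) := by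
  ext v
  constructor
  · intro hv
    obtain ⟨w, rfl⟩ := H951.mem_cm.1 hv
    refine ⟨lin y (lin g⁻¹ w) - lin g⁻¹ w, H951.mem_cm.2 ⟨_, rfl⟩, ?_⟩
    rw [map_sub, lin_apply_inv, lin_mul_apply, lin_mul_apply]
  · rintro ⟨u, hu, rfl⟩
    obtain ⟨w, rfl⟩ := H951.mem_cm.1 hu
    refine H951.mem_cm.2 ⟨lin g w, ?_⟩
    rw [map_sub, lin_mul_apply, lin_mul_apply, lin_inv_apply]

/-- an element commuting with `t` up to a scalar commutes with `t` -/
theorem comm_of_scalar (b : Base x t z r) {s : GL I8 F} {e : F} (h : ∀ v, lin t (lin s v) = e • lin s (lin t v))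
    (v : I8 → F) : lin t (lin s v) = lin s (lin t v) := by
  by_cases he : e = 1
  · rw [h, he, one_smul]
  exfalso
  have h1 : (fx (lin t)).map (lin s) ⊓ fx (lin t) = ⊥ := by
    rw [eq_bot_iff]
    rintro _ ⟨⟨u, hu, rfl⟩, hv⟩
    have hu' : lin t u = u := H951.mem_fx.1 hu
    have hv' : lin t (lin s u) = lin s u := H951.mem_fx.1 hv
    rw [h, hu'] at hv'
    have h2 : (e - 1) • lin s u = 0 := by rw [sub_smul, one_smul, hv', sub_self]
    rw [Submodule.mem_bot]
    exact (smul_eq_zero.1 h2).resolve_left (sub_ne_zero.2 he)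
  have h2 := H951.finrank_sup_of_disj h1
  have h3 : finrank F ((fx (lin t)).map (lin s)) = 6 := by
    rw [H955.finrank_map_of_injective _ (lin_inj s), b.tV, b.dim6]
  have h4 : finrank F (fx (lin t)) = 6 := by rw [b.tV, b.dim6]
  rw [h3, h4] at h2
  have h5 := Submodule.finrank_le ((fx (lin t)).map (lin s) ⊔ fx (lin t))
  rw [finrank_I8] at h5
  omega

/-- no scalar on `W` -/
theorem Base.no_eig (b : Base x t z r) (e : F) : ¬ ∀ w ∈ fx (lin x), lin t w = e • w := by
  intro h
  obtain ⟨v, hv, hv0⟩ := (Submodule.ne_bot_iff _).1 b.irr2.1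
  have hle : Submodule.span F {v} ≤ fx (lin x) := by
    rw [Submodule.span_singleton_le_iff_mem]
    exact hv
  rcases b.irr2.2.2 (Submodule.span F {v}) hle (by
    intro w hw
    rw [h w (hle hw)]
    exact Submodule.smul_mem _ _ hw) with h1 | h1
  · exact hv0 (Submodule.span_singleton_eq_bot.1 h1)
  · have h2 := finrank_span_singleton (K := F) hv0
    rw [h1, b.dim2] at h2
    omega

/-- `t + t⁻¹` is a scalar on `W` -/
theorem exists_tau (hF : Nat.card F = p ^ a) (h : RW p a r k) (w : Wit x t (r ^ k)) (b : Base x t z r) :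
    ∃ τ : F, ∀ v ∈ fx (lin x), lin t (lin t v) = τ • lin t v - (1 : F) • v := by
  have hiso := iso_of_omega w.t_mem
  have hW : ∀ v ∈ fx (lin x), lin t v ∈ fx (lin x) := b.irr2.2.1
  -- `t² ≠ 1` on `W`
  obtain ⟨v, hv, hv2⟩ : ∃ v ∈ fx (lin x), lin t (lin t v) ≠ v := by
    by_contra hcon
    push Not at hcon
    have h1 : t ^ 2 = 1 := by
      apply lin_injective
      rw [lin_one, lin_pow]
      refine LinearMap.ext fun v => ?_
      rw [pow_two, Module.End.mul_apply, Module.End.one_apply]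
      have h6 : v ∈ fx (lin x) ⊔ cm (lin x) := by rw [b.compl.sup_eq_top]; exact Submodule.mem_top
      obtain ⟨u, hu, u', hu', rfl⟩ := Submodule.mem_sup.1 h6
      have h7 : lin t u' = u' := by
        rw [← H951.mem_fx, b.tV]
        exact hu'
      rw [map_add, map_add, h7, h7, hcon u hu]
    have h2 := orderOf_dvd_of_pow_eq_one h1
    rw [w.t_ord] at h2
    have h3 := Nat.le_of_dvd (by norm_num) h2
    have h4 := h.mt_three
    rw [← hF] at h4
    omega
  -- `v'' = t² v - v` is orthogonal to `t v` and to `t² v + v`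
  obtain ⟨n, hn⟩ : ∃ n, n = lin t (lin t v) - v := ⟨_, rfl⟩
  have hn0 : n ≠ 0 := by rw [hn]; exact sub_ne_zero.2 hv2
  have hnW : n ∈ fx (lin x) := by rw [hn]; exact Submodule.sub_mem _ (hW _ (hW v hv)) hv
  have ps : ∀ u u' u'', polar (quadFormPlus 4 F) u (u' - u'') = polar (quadFormPlus 4 F) u u' -
      polar (quadFormPlus 4 F) u u'' := by
    intro u u' u''
    rw [← coe_quadPlus]
    exact polar_sub_right (quadPlus 4 F) _ _ _
  have hself : ∀ u, polar (quadFormPlus 4 F) (lin t u) (lin t u) = polar (quadFormPlus 4 F) u u := fun u =>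
    polar_iso' hiso u u
  have h1 : polar (quadFormPlus 4 F) (lin t v) n = 0 := by
    rw [hn, ps, polar_iso' hiso v (lin t v), polar_comm8 v (lin t v), sub_self]
  have h2 : polar (quadFormPlus 4 F) (lin t (lin t v) + v) n = 0 := by
    rw [hn, ps, polar_add_left8, polar_add_left8, hself, hself, polar_comm8 v (lin t (lin t v))]
    ring
  -- the line orthogonal to `n` in `W`
  have hline : ∃ τ : F, lin t (lin t v) + v = τ • lin t v := by
    have htv0 : lin t v ≠ 0 := by
      intro h0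
      apply hv2
      have h5 : v = 0 := by
        have := congrArg (lin t⁻¹) h0
        rwa [lin_inv_apply, map_zero] at this
      rw [h5, map_zero, map_zero]
    by_contra hcon
    push Not at hcon
    -- then `n` is orthogonal to `W`
    have hli : LinearIndependent F ![lin t v, lin t (lin t v) + v] := by
      rw [LinearIndependent.pair_iff' htv0]
      intro τ h5
      exact hcon τ h5.symm
    have hspan : Submodule.span F (Set.range ![lin t v, lin t (lin t v) + v]) = fx (lin x) := by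
      refine Submodule.eq_of_le_of_finrank_eq ?_ ?_
      · rw [Submodule.span_le]
        rintro _ ⟨i, rfl⟩
        fin_cases i
        · exact hW v hv
        · exact Submodule.add_mem _ (hW _ (hW v hv)) hv
      · rw [finrank_span_eq_card hli, Fintype.card_fin, b.dim2]
    apply hn0
    refine nondeg8 fun u => ?_
    have h6 : u ∈ fx (lin x) ⊔ cm (lin x) := by rw [b.compl.sup_eq_top]; exact Submodule.mem_top
    obtain ⟨u1, hu1, u2, hu2, rfl⟩ := Submodule.mem_sup.1 h6
    rw [polar_add_left8, polar_comm8 u2 n, b.perp n hnW u2 hu2, add_zero]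
    rw [← hspan] at hu1
    refine Submodule.span_induction (p := fun u _ => polar (quadFormPlus 4 F) u n = 0) ?_ ?_ ?_ ?_ hu1
    · rintro _ ⟨i, rfl⟩
      fin_cases i
      · exact h1
      · exact h2
    · rw [← coe_quadPlus]
      exact polar_zero_left (quadPlus 4 F) n
    · intro u u' _ _ hu hu'
      rw [polar_add_left8, hu, hu', add_zero]
    · intro e u _ hu
      have h7 : polar (quadFormPlus 4 F) (e • u) n = e * polar (quadFormPlus 4 F) u n := by
        rw [← coe_quadPlus]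
        exact polar_smul_left (quadPlus 4 F) e u n
      rw [h7, hu, mul_zero]
  obtain ⟨τ, hτ⟩ := hline
  refine ⟨τ, ?_⟩
  -- the kernel of `t² - τ t + 1` is invariant under `t`
  let K : Submodule F (I8 → F) := fx (lin x) ⊓ LinearMap.ker (lin t * lin t - τ • lin t + 1)
  have hK : ∀ u, u ∈ LinearMap.ker (lin t * lin t - τ • lin t + 1) ↔ lin t (lin t u) - τ • lin t u + u = 0 := by
    intro u
    rw [LinearMap.mem_ker, LinearMap.add_apply, LinearMap.sub_apply, LinearMap.smul_apply, Module.End.mul_apply,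
      Module.End.one_apply]
  rcases b.irr2.2.2 K inf_le_left (by
    intro u hu
    obtain ⟨hu1, hu2⟩ := Submodule.mem_inf.1 hu
    refine Submodule.mem_inf.2 ⟨hW u hu1, ?_⟩
    rw [hK] at hu2 ⊢
    rw [← map_smul, ← map_sub, ← map_add, hu2, map_zero]) with h3 | h3
  · exfalso
    have h4 : v ∈ K := by
      refine Submodule.mem_inf.2 ⟨hv, ?_⟩
      rw [hK, sub_add_eq_add_sub, hτ, sub_self]
    rw [h3, Submodule.mem_bot] at h4
    apply hv2
    rw [h4, map_zero, map_zero]
  · intro u hu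
    have h4 : u ∈ K := by rw [h3]; exact hu
    have h5 := (hK u).1 (Submodule.mem_inf.1 h4).2
    rw [one_smul, eq_sub_iff_add_eq, ← sub_eq_zero, ← h5]
    abel

/-- a conjugate of `t` which commutes with `t` is `t`, `t⁻¹`, or trivial on `W` -/
theorem conj_cases (hF : Nat.card F = p ^ a) (h : RW p a r k) (w : Wit x t (r ^ k)) (b : Base x t z r) {g s : GL I8 F}
    (hs : s = g * t * g⁻¹) (hc : ∀ v, lin t (lin s v) = lin s (lin t v)) :
    s = t ∨ s = t⁻¹ ∨ ∀ v ∈ fx (lin x), lin s v = v := by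
  have hsW : ∀ v ∈ fx (lin x), lin s v ∈ fx (lin x) := by
    intro v hv
    rw [← b.tW] at hv ⊢
    exact pres_cm (fun v => (hc v).symm) hv
  have hsV : ∀ v ∈ cm (lin x), lin s v ∈ cm (lin x) := by
    intro v hv
    rw [← b.tV] at hv ⊢
    exact pres_fx (fun v => (hc v).symm) hv
  rcases b.irr2.2.2 ((fx (lin x)).map (lin s - 1)) (by
    rintro _ ⟨v, hv, rfl⟩
    exact Submodule.sub_mem _ (hsW v hv) hv) (by
    rintro _ ⟨v, hv, rfl⟩
    refine ⟨lin t v, b.irr2.2.1 v hv, ?_⟩
    rw [LinearMap.sub_apply, LinearMap.sub_apply, map_sub, hc]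
    rfl) with h1 | h1
  · right; right
    intro v hv
    have h2 : (lin s - 1) v ∈ (fx (lin x)).map (lin s - 1) := ⟨v, hv, rfl⟩
    rw [h1, Submodule.mem_bot, LinearMap.sub_apply, Module.End.one_apply] at h2
    exact sub_eq_zero.1 h2
  -- `cm s = W`
  have hcm : cm (lin s) = fx (lin x) := by
    symm
    refine Submodule.eq_of_le_of_finrank_eq ?_ ?_
    · rw [← h1]
      rintro _ ⟨v, -, rfl⟩
      exact ⟨v, rfl⟩
    · rw [hs, cm_conj, H955.finrank_map_of_injective _ (lin_inj g), b.tW]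
  have hV : ∀ v ∈ cm (lin x), lin s v = v := by
    intro v hv
    have h2 : lin s v - v ∈ fx (lin x) := by
      rw [← hcm]
      exact H951.mem_cm.2 ⟨v, rfl⟩
    have h3 : lin s v - v ∈ cm (lin x) := Submodule.sub_mem _ (hsV v hv) hv
    have h4 : lin s v - v ∈ fx (lin x) ⊓ cm (lin x) := ⟨h2, h3⟩
    rw [b.compl.inf_eq_bot, Submodule.mem_bot] at h4
    exact sub_eq_zero.1 h4
  obtain ⟨τ, hτ⟩ := exists_tau hF h w b
  have hsτ : ∀ v ∈ fx (lin x), lin s (lin s v) = τ • lin s v - (1 : F) • v := by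
    intro v hv
    rw [← hcm, hs, cm_conj] at hv
    obtain ⟨u, hu, rfl⟩ := hv
    have hu' : u ∈ fx (lin x) := by rw [← b.tW]; exact hu
    have h2 : ∀ y, lin s (lin g y) = lin g (lin t y) := by
      intro y
      rw [hs, lin_mul_apply, lin_mul_apply, lin_inv_apply]
    rw [h2, h2, hτ u hu', map_sub, map_smul, map_smul]
  have hdec : ∀ {A : GL I8 F}, (∀ v ∈ fx (lin x), lin s v = lin A v) → (∀ v ∈ cm (lin x), lin A v = v) → s = A := by
    intro A h2 h3
    apply lin_injective
    refine LinearMap.ext fun v => ?_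
    have h6 : v ∈ fx (lin x) ⊔ cm (lin x) := by rw [b.compl.sup_eq_top]; exact Submodule.mem_top
    obtain ⟨u, hu, u', hu', rfl⟩ := Submodule.mem_sup.1 h6
    rw [map_add, map_add, h2 u hu, h3 u' hu', hV u' hu']
  have htV : ∀ v ∈ cm (lin x), lin t v = v := by
    intro v hv
    rw [← H951.mem_fx, b.tV]
    exact hv
  rcases two_roots b.irr2 (A := lin s) (B := lin t) (LinearMap.ext fun v => (hc v).symm) rfl hsW b.irr2.2.1
    (c := τ) (d := 1) hsτ hτ with h2 | h2
  · left
    exact hdec h2 htV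
  · right; left
    refine hdec (fun v hv => ?_) fun v hv => ?_
    · rw [h2 v hv]
      apply lin_inj t
      rw [lin_apply_inv, map_sub, map_smul, hτ v hv, one_smul]
      abel
    · apply lin_inj t
      rw [lin_apply_inv, htV v hv]

/-- **three conjugates of `t`** -/
theorem kill3 (hF : Nat.card F = p ^ a) (h : RW p a r k) (w : Wit x t (r ^ k)) (b : Base x t z r)
    {g₁ g₂ g₃ s₁ s₂ s₃ : GL I8 F} {e₁ e₂ e₃ e : F} (h₁ : s₁ = g₁ * t * g₁⁻¹) (h₂ : s₂ = g₂ * t * g₂⁻¹)
    (h₃ : s₃ = g₃ * t * g₃⁻¹) (c₁ : ∀ v, lin t (lin s₁ v) = e₁ • lin s₁ (lin t v))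
    (c₂ : ∀ v, lin t (lin s₂ v) = e₂ • lin s₂ (lin t v)) (c₃ : ∀ v, lin t (lin s₃ v) = e₃ • lin s₃ (lin t v))
    (hm : ∀ v, lin s₁ (lin s₂ (lin s₃ v)) = e • lin t v)
    (n₁ : s₁ ∉ Subgroup.zpowers t) (n₂ : s₂ ∉ Subgroup.zpowers t) (n₃ : s₃ ∉ Subgroup.zpowers t) : False := by
  have key : ∀ {g s : GL I8 F} {e : F}, s = g * t * g⁻¹ → (∀ v, lin t (lin s v) = e • lin s (lin t v)) →
      s ∉ Subgroup.zpowers t → ∀ v ∈ fx (lin x), lin s v = v := by
    intro g s e hs hc hn
    rcases conj_cases hF h w b hs (comm_of_scalar b hc) with h1 | h1 | h1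
    · exact absurd (h1 ▸ Subgroup.mem_zpowers t) hn
    · exact absurd (h1 ▸ Subgroup.inv_mem _ (Subgroup.mem_zpowers t)) hn
    · exact h1
  have k1 := key h₁ c₁ n₁
  have k2 := key h₂ c₂ n₂
  have k3 := key h₃ c₃ n₃
  have he : e ≠ 0 := by
    rintro rfl
    obtain ⟨v, hv, hv0⟩ := (Submodule.ne_bot_iff _).1 b.irr2.1
    have h1 := hm v
    rw [k3 v hv, k2 v hv, k1 v hv, zero_smul] at h1
    exact hv0 h1
  refine b.no_eig e⁻¹ fun v hv => ?_
  have h1 := hm v
  rw [k3 v hv, k2 v hv, k1 v hv] at h1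
  rw [eq_inv_smul_iff₀ he]
  exact h1.symm

/-- **two conjugates of a power of `t`** -/
theorem kill2 (b : Base x t z r) {g₁ g₂ s₁ s₂ : GL I8 F} {n : ℕ} {e : F} (h₁ : s₁ = g₁ * t ^ n * g₁⁻¹)
    (h₂ : s₂ = g₂ * t ^ n * g₂⁻¹) (hm : ∀ v, lin s₁ (lin s₂ v) = e • lin x v) : False := by
  have hfx : ∀ {g s : GL I8 F}, s = g * t ^ n * g⁻¹ → 6 ≤ finrank F (fx (lin s)) := by
    intro g s hs
    rw [hs, finrank_fx_conj]
    have h1 : fx (lin t) ≤ fx (lin (t ^ n)) := by
      intro v hv
      rw [lin_pow]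
      exact pow_one_fx hv n
    have h2 := Submodule.finrank_mono h1
    rw [b.tV, b.dim6] at h2
    exact h2
  have h3 := hfx h₁
  have h4 := hfx h₂
  have h5 := Submodule.finrank_sup_add_finrank_inf_eq (fx (lin s₁)) (fx (lin s₂))
  have h6 := Submodule.finrank_le (fx (lin s₁) ⊔ fx (lin s₂))
  rw [finrank_I8] at h6
  have h7 := Submodule.finrank_sup_add_finrank_inf_eq (fx (lin s₁) ⊓ fx (lin s₂)) (cm (lin x))
  have h8 := Submodule.finrank_le ((fx (lin s₁) ⊓ fx (lin s₂)) ⊔ cm (lin x))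
  rw [finrank_I8] at h8
  have h9 := b.dim6
  have h10 : (fx (lin s₁) ⊓ fx (lin s₂)) ⊓ cm (lin x) ≠ ⊥ := by
    intro h0
    rw [h0, finrank_bot] at h7
    omega
  obtain ⟨v, hv, hv0⟩ := (Submodule.ne_bot_iff _).1 h10
  obtain ⟨hv1, hv2⟩ := Submodule.mem_inf.1 hv
  obtain ⟨hv3, hv4⟩ := Submodule.mem_inf.1 hv1
  have h11 := hm v
  rw [H951.mem_fx.1 hv4, H951.mem_fx.1 hv3] at h11
  have he : e ≠ 0 := by
    rintro rfl
    rw [zero_smul] at h11
    exact hv0 h11
  have h12 : lin x v = e⁻¹ • v := by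
    rw [eq_inv_smul_iff₀ he]
    exact h11.symm
  obtain ⟨m, hmz⟩ := b.z_eq
  have h13 : lin z v = (e⁻¹) ^ m • v := by
    rw [hmz, lin_pow]
    have : ∀ n : ℕ, (lin x ^ n) v = (e⁻¹) ^ n • v := by
      intro n
      induction n with
      | zero => simp
      | succ n ih => rw [pow_succ', Module.End.mul_apply, ih, map_smul, h12, smul_smul, pow_succ]
    exact this m
  have hle : Submodule.span F {v} ≤ cm (lin x) := by
    rw [Submodule.span_singleton_le_iff_mem]
    exact hv2
  rcases b.irr6.2.2 (Submodule.span F {v}) hle (by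
    intro w hw
    obtain ⟨α, rfl⟩ := Submodule.mem_span_singleton.1 hw
    rw [map_smul, h13]
    exact Submodule.smul_mem _ _ (Submodule.smul_mem _ _ (Submodule.mem_span_singleton_self v))) with h14 | h14
  · exact hv0 (Submodule.span_singleton_eq_bot.1 h14)
  · have h15 := finrank_span_singleton (K := F) hv0
    rw [h14, b.dim6] at h15
    omega

end Cfsg.Agent.H823.O8S
end

-- part: H823/O8S/Res
section
/-!
# S3938-OPLUS8: the residual overgroups of `x`, `t`, from the four families (helper823)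
-/

set_option autoImplicit false
set_option linter.unusedSectionVars false

namespace Cfsg.Agent.H823.O8S

open Module QuadraticMap Cfsg Cfsg.Geo Cfsg.Agent.LieClassical.OrthCore Cfsg.Agent.H955 Cfsg.Agent.H954.TSing
open Cfsg.Agent.LieClassical.OmegaReindex Cfsg.Agent.OrdDiv Cfsg.Agent.H915.LD Cfsg.Agent.H902 Cfsg.Agent.H902.Names
open Cfsg.Agent.H436 Cfsg.Agent.H264.GN Cfsg.Agent.H915.GN Cfsg.Agent.H264.FKS
open Cfsg.Agent.H951 (fx cm Inv Irr)
open Cfsg.Agent.H884.El
open Cfsg.Agent.H708.O8 (I8 T8)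
open scoped MatrixGroups Matrix

variable {F : Type} [Field F] [Fintype F] {p a r k : ℕ} {x t z : GL I8 F}

/-- the quotient map -/
abbrev mk8 (F : Type) [Field F] [Fintype F] : Omega F (quadFormPlus 4 F) →* T8 F :=
  QuotientGroup.mk' (Subgroup.center (Omega F (quadFormPlus 4 F)))

/-- the matrix of an element of `Ω` -/
abbrev gl8 (F : Type) [Field F] [Fintype F] : Omega F (quadFormPlus 4 F) →* GL I8 F :=
  (isometryGroup F (quadFormPlus 4 F)).subtype.comp (Omega F (quadFormPlus 4 F)).subtype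

seal _root_.Finset.sum _root_.dotProduct in
theorem mk8_eq_one {y : Omega F (quadFormPlus 4 F)} (h : mk8 F y = 1) : ∃ e : F, ∀ v, _root_.Cfsg.Agent.H884.El.lin (gl8 F y) v = e • v := by
  have h1 : ∀ y : Omega F (⇑(quadPlus 4 F)), QuotientGroup.mk' (Subgroup.center (Omega F (⇑(quadPlus 4 F)))) y = 1 →
      ((isometryGroup F (⇑(quadPlus 4 F))).subtype.comp (Omega F (⇑(quadPlus 4 F))).subtype) y ∈ scalars I8 F :=
    fun y h => (hker_omega (quadPlus 4 F) quadPlus_nondegenerate (by rw [card_I8]; norm_num)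
      (quadPlus_isotropic (by norm_num)) y).1 h
  rw [coe_quadPlus] at h1
  obtain ⟨e, he⟩ := (mem_scalars_iff _).1 (h1 y h)
  refine ⟨(e : F), fun v => ?_⟩
  have h2 : ((gl8 F y : GL I8 F) : Matrix I8 I8 F) = (e : F) • 1 := he
  rw [H884.El.lin, h2, _root_.LinearEquiv.map_smul, Matrix.toLin'_one]
  rfl

theorem mk8_eq {y y' : Omega F (quadFormPlus 4 F)} (h : mk8 F y = mk8 F y') :
    ∃ e : F, ∀ v, _root_.Cfsg.Agent.H884.El.lin (gl8 F y) v = e • _root_.Cfsg.Agent.H884.El.lin (gl8 F y') v := by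
  obtain ⟨e, he⟩ := mk8_eq_one (y := y * y'⁻¹) (by simp only [_root_.MonoidHom.map_mul, _root_.MonoidHom.map_inv, h, mul_inv_cancel])
  refine ⟨e, fun v => ?_⟩
  have h1 := he (_root_.Cfsg.Agent.H884.El.lin (gl8 F y') v)
  (simp only [_root_.MonoidHom.map_mul, _root_.MonoidHom.map_inv, lin_mul_apply, lin_inv_apply] at h1; assumption)

theorem exists_lift {K : Subgroup (T8 F)} {g : GL I8 F} (hg : g ∈ pre (quadFormPlus 4 F) K) :
    ∃ y : Omega F (quadFormPlus 4 F), gl8 F y = g ∧ mk8 F y ∈ K := by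
  obtain ⟨_, ⟨y, hy, rfl⟩, hyx⟩ := hg
  exact ⟨y, hyx, hy⟩

seal _root_.Finset.sum _root_.dotProduct in
/-- the order of the image of an element with a fixed vector -/
theorem order_mk {y : Omega F (quadFormPlus 4 F)} (h : fx (_root_.Cfsg.Agent.H884.El.lin (gl8 F y)) ≠ ⊥) : orderOf (mk8 F y) = orderOf (gl8 F y) := by
  apply Nat.dvd_antisymm
  · apply orderOf_dvd_of_pow_eq_one
    have h1 : y ^ orderOf (gl8 F y) = 1 := by
      apply (isometryGroup F (quadFormPlus 4 F)).subtype_injective.comp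
        (Omega F (quadFormPlus 4 F)).subtype_injective
      change gl8 F (y ^ _) = gl8 F 1
      rw [map_pow, pow_orderOf_eq_one, map_one]
    rw [← map_pow, h1, map_one]
  · apply orderOf_dvd_of_pow_eq_one
    have h1 : mk8 F (y ^ orderOf (mk8 F y)) = 1 := by rw [map_pow, pow_orderOf_eq_one]
    (have h_ob := mk8_eq_one h1
     revert h_ob; rintro (⟨e, he⟩))
    (have h_ob := (Submodule.ne_bot_iff _).1 h
     revert h_ob; rintro (⟨v, hv, hv0⟩))
    have h2 : v ∈ fx (_root_.Cfsg.Agent.H884.El.lin (gl8 F y) ^ orderOf (mk8 F y)) := pow_one_fx hv _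
    have h3 := he v
    rw [map_pow, lin_pow, H951.mem_fx.1 h2] at h3
    have h4 : (1 - e) • v = 0 := by rw [sub_smul, one_smul, ← h3, sub_self]
    have h5 : e = 1 := (sub_eq_zero.1 ((smul_eq_zero.1 h4).resolve_right hv0)).symm
    apply H884.El.lin_injective
    rw [lin_one, ← map_pow]
    refine LinearMap.ext fun u => ?_
    rw [he u, h5, one_smul]
    rfl

section

seal _root_.Finset.sum _root_.dotProduct in
/-- **the residual class**, from the pieces (O3) .. (O8) -/
theorem residual (hF : Nat.card F = p ^ a) (h : RK p a r k) (w : Wit x t (r ^ k))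
    (own : ∀ {R : Subgroup (T8 F)} (_ : R ≠ ⊤) (S : Subgroup R) [S.Normal] (_ : IsSimpleGroup S)
      (_ : ¬ IsMulCommutative S) (_ : Subgroup.centralizer (S : Set R) = ⊥) {P : Subgroup (GL I8 F)}
      (_ : IsResidualCore (pre (quadFormPlus 4 F) R) P) (_ : S ≃* Soc P) (_ : IsLieTypeChar p (Soc P))
      (_ : r ∣ Nat.card R),
      (∃ (K : Type) (_ : Field K) (_ : Fintype K), Fintype.card K = p ^ (3 * a) ∧
        Nonempty (S ≃* Matrix.ProjectiveSpecialLinearGroup (Fin 2) K)) ∨
      IsNamed (.psu 3 (p ^ a)) S ∨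
      (∃ (K : Type) (_ : Field K) (_ : Fintype K), Fintype.card K = p ^ a ∧ Nonempty (S ≃* PSp 3 K)) ∨
      (p ≠ 2 ∧ ∃ (K : Type) (_ : Field K) (_ : Fintype K), Fintype.card K = p ^ a ∧
        Nonempty (S ≃* POmega K (quadFormOdd 3 K))))
    (cross : ∀ {R : Subgroup (T8 F)} (S : Subgroup R) [S.Normal] (_ : IsSimpleGroup S)
      (_ : ¬ IsMulCommutative S) (_ : Subgroup.centralizer (S : Set R) = ⊥) {P : Subgroup (GL I8 F)}
      (_ : IsResidualCore (pre (quadFormPlus 4 F) R) P) (_ : S ≃* Soc P) (_ : ¬ IsLieTypeChar p (Soc P))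
      {x t : R} (_ : orderOf x = r ^ k) (_ : orderOf t = mt (p ^ a)) (_ : x * t = t * x), False)
    (psl2 : ∀ {R : Type} [Group R] [Finite R] (S : Subgroup R) [S.Normal] (_ : Subgroup.centralizer (S : Set R) = ⊥)
      {x t : R} (_ : orderOf x = r ^ k) (_ : orderOf t = mt (p ^ a)) (_ : x * t = t * x) {K : Type} [Field K] [Fintype K]
      (_ : Fintype.card K = p ^ (3 * a)) (_ : S ≃* Matrix.ProjectiveSpecialLinearGroup (Fin 2) K),
      ∃ t₁ t₂ : R, IsConj (t ^ 2) t₁ ∧ IsConj (t ^ 2) t₂ ∧ t₁ * t₂ = x)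
    (sp6 : ∀ {R : Type} [Group R] [Finite R] (S : Subgroup R) [S.Normal] (_ : Subgroup.centralizer (S : Set R) = ⊥)
      {x t : R} (_ : orderOf x = r ^ k) (_ : orderOf t = mt (p ^ a)) (_ : x * t = t * x) {K : Type} [Field K] [Fintype K]
      (_ : Fintype.card K = p ^ a) (_ : S ≃* PSp 3 K),
      ∃ t₁ t₂ t₃ : R, IsConj t t₁ ∧ IsConj t t₂ ∧ IsConj t t₃ ∧ t * t₁ = t₁ * t ∧ t * t₂ = t₂ * t ∧ t * t₃ = t₃ * t ∧
        t₁ ∉ Subgroup.zpowers t ∧ t₂ ∉ Subgroup.zpowers t ∧ t₃ ∉ Subgroup.zpowers t ∧ t₁ * t₂ * t₃ = t)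
    (po7 : ∀ {R : Type} [Group R] [Finite R] (S : Subgroup R) [S.Normal] (_ : Subgroup.centralizer (S : Set R) = ⊥)
      {x t : R} (_ : orderOf x = r ^ k) (_ : orderOf t = mt (p ^ a)) (_ : x * t = t * x) {K : Type} [Field K] [Fintype K]
      (_ : p ≠ 2) (_ : Fintype.card K = p ^ a) (_ : S ≃* POmega K (quadFormOdd 3 K)),
      ∃ t₁ t₂ t₃ : R, IsConj t t₁ ∧ IsConj t t₂ ∧ IsConj t t₃ ∧ t * t₁ = t₁ * t ∧ t * t₂ = t₂ * t ∧ t * t₃ = t₃ * t ∧
        t₁ ∉ Subgroup.zpowers t ∧ t₂ ∉ Subgroup.zpowers t ∧ t₃ ∉ Subgroup.zpowers t ∧ t₁ * t₂ * t₃ = t)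
    (psu3 : ∀ {R : Type} [Group R] [Finite R] (S : Subgroup R) [S.Normal] (_ : Subgroup.centralizer (S : Set R) = ⊥)
      {x t : R} (_ : orderOf x = r ^ k) (_ : orderOf t = mt (p ^ a)) (_ : x * t = t * x)
      (_ : IsNamed (.psu 3 (p ^ a)) S), False)
    {K : Subgroup (T8 F)} (hx : x ∈ pre (quadFormPlus 4 F) K) (ht : t ∈ pre (quadFormPlus 4 F) K) (hK : K ≠ ⊤)
    (hres : InOrthogonalResidualClass (pre (quadFormPlus 4 F) K)) : False := by
  obtain ⟨z, b⟩ := base hF h w
  obtain ⟨P, hP, -⟩ := hres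
  obtain ⟨S, hSn, hS, hna, hC, ⟨e⟩⟩ := exists_res_plus (n := 4) le_rfl hP
  obtain ⟨yx, hyx, hyxK⟩ := exists_lift hx
  obtain ⟨yt, hyt, hytK⟩ := exists_lift ht
  let X : K := ⟨mk8 F yx, hyxK⟩
  let T : K := ⟨mk8 F yt, hytK⟩
  have hbot : fx (_root_.Cfsg.Agent.H884.El.lin x) ≠ ⊥ := b.irr2.1
  have hbot' : fx (_root_.Cfsg.Agent.H884.El.lin t) ≠ ⊥ := by rw [b.tV]; exact b.irr6.1
  have hX : orderOf X = r ^ k := by
    rw [← w.x_ord, ← Subgroup.orderOf_coe, ← hyx]
    exact order_mk (by rw [hyx]; exact hbot)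
  have hT : orderOf T = mt (p ^ a) := by
    simp only [← hF, ← w.t_ord, ← Subgroup.orderOf_coe, ← hyt]
    exact order_mk (by rw [hyt]; exact hbot')
  have hinj : Function.Injective (gl8 F) := (isometryGroup F (quadFormPlus 4 F)).subtype_injective.comp
    (Omega F (quadFormPlus 4 F)).subtype_injective
  have hXT : X * T = T * X := by
    apply Subtype.ext
    change mk8 F yx * mk8 F yt = mk8 F yt * mk8 F yx
    simp only [← map_mul, ← map_mul]
    congr 1
    apply hinj
    simp only [_root_.MonoidHom.map_mul, _root_.MonoidHom.map_mul, hyx, hyt, w.comm]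
  -- lifts of conjugates
  have hlift : ∀ (n : ℕ) {T' : K}, IsConj (T ^ n) T' → ∃ y g : Omega F (quadFormPlus 4 F), mk8 F y = T' ∧
      gl8 F y = gl8 F g * t ^ n * (gl8 F g)⁻¹ := by
    intro n T' hc
    (have h_ob := isConj_iff.1 hc
     revert h_ob; rintro (⟨C, hC⟩))
    (have h_ob := QuotientGroup.mk'_surjective (Subgroup.center (Omega F (quadFormPlus 4 F))) (C : T8 F)
     revert h_ob; rintro (⟨g, hg⟩))
    refine ⟨g * yt ^ n * g⁻¹, g, ?_, ?_⟩
    · rw [← hC]
      change mk8 F (g * yt ^ n * g⁻¹) = C * (mk8 F yt) ^ n * (C : T8 F)⁻¹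
      simp only [map_mul, map_mul, map_pow, map_inv]
      change mk8 F g = C at hg
      simp only [hg]
    · simp only [_root_.MonoidHom.map_mul, _root_.MonoidHom.map_mul, _root_.MonoidHom.map_pow, _root_.MonoidHom.map_inv, hyt]
  -- three conjugates
  have k3 : (∃ t₁ t₂ t₃ : K, IsConj T t₁ ∧ IsConj T t₂ ∧ IsConj T t₃ ∧ T * t₁ = t₁ * T ∧ T * t₂ = t₂ * T ∧
      T * t₃ = t₃ * T ∧ t₁ ∉ Subgroup.zpowers T ∧ t₂ ∉ Subgroup.zpowers T ∧ t₃ ∉ Subgroup.zpowers T ∧
      t₁ * t₂ * t₃ = T) → False := by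
    rintro ⟨t₁, t₂, t₃, h1, h2, h3, c1, c2, c3, n1, n2, n3, hm⟩
    obtain ⟨y₁, g₁, m1, d1⟩ := hlift 1 (T' := t₁) (by rw [pow_one]; exact h1)
    obtain ⟨y₂, g₂, m2, d2⟩ := hlift 1 (T' := t₂) (by rw [pow_one]; exact h2)
    obtain ⟨y₃, g₃, m3, d3⟩ := hlift 1 (T' := t₃) (by rw [pow_one]; exact h3)
    simp only [pow_one] at d1 d2 d3
    have hcs : ∀ {y : Omega F (quadFormPlus 4 F)} {t' : K}, mk8 F y = t' → T * t' = t' * T →
        ∃ e : F, ∀ v, _root_.Cfsg.Agent.H884.El.lin t (_root_.Cfsg.Agent.H884.El.lin (gl8 F y) v) = e • _root_.Cfsg.Agent.H884.El.lin (gl8 F y) (_root_.Cfsg.Agent.H884.El.lin t v) := by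
      intro y t' hy hc
      (have h_ob := mk8_eq (y := yt * y) (y' := y * yt) (by
        simp only [map_mul, map_mul, hy]
        exact congrArg Subtype.val hc)
       revert h_ob; rintro (⟨e, he⟩))
      refine ⟨e, fun v => ?_⟩
      have h5 := he v
      (simp only [_root_.MonoidHom.map_mul, _root_.MonoidHom.map_mul, lin_mul_apply, lin_mul_apply, hyt] at h5; assumption)
    have hnz : ∀ {y : Omega F (quadFormPlus 4 F)} {t' : K}, mk8 F y = t' → t' ∉ Subgroup.zpowers T →
        gl8 F y ∉ Subgroup.zpowers t := by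
      intro y t' hy hn hz
      apply hn
      (have h_ob := Subgroup.mem_zpowers_iff.1 hz
       revert h_ob; rintro (⟨i, hi⟩))
      refine Subgroup.mem_zpowers_iff.2 ⟨i, Subtype.ext ?_⟩
      simp only [← hy]
      change (mk8 F yt) ^ i = _
      rw [← map_zpow]
      congr 1
      apply hinj
      rw [map_zpow, hyt, hi]
    obtain ⟨e1, k1⟩ := hcs m1 c1
    obtain ⟨e2, k2⟩ := hcs m2 c2
    obtain ⟨e3, k3⟩ := hcs m3 c3
    obtain ⟨e, he⟩ := mk8_eq (y := y₁ * y₂ * y₃) (y' := yt) (by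
      simp only [map_mul, map_mul, m1, m2, m3]
      exact congrArg Subtype.val hm)
    refine kill3 hF h.weak w b d1 d2 d3 k1 k2 k3 (e := e) (fun v => ?_) (hnz m1 n1) (hnz m2 n2) (hnz m3 n3)
    have h5 := he v
    (simp only [_root_.MonoidHom.map_mul, _root_.MonoidHom.map_mul, lin_mul_apply, lin_mul_apply, hyt] at h5; assumption)
  have hrK : r ∣ Nat.card K := by
    have h1 : orderOf X ∣ Nat.card K := orderOf_dvd_natCard X
    rw [hX] at h1
    exact (dvd_pow_self r (by have := h.hk; omega)).trans h1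
  by_cases hL : IsLieTypeChar p (Soc P)
  · rcases own hK S hS hna hC hP e hL hrK with ⟨E, i1, i2, hE, ⟨f⟩⟩ | hN | ⟨E, i1, i2, hE, ⟨f⟩⟩ |
      ⟨hp2, E, i1, i2, hE, ⟨f⟩⟩
    · obtain ⟨t₁, t₂, h1, h2, hm⟩ := psl2 S hC hX hT hXT hE f
      obtain ⟨y₁, g₁, m1, d1⟩ := hlift 2 h1
      obtain ⟨y₂, g₂, m2, d2⟩ := hlift 2 h2
      obtain ⟨e, he⟩ := mk8_eq (y := y₁ * y₂) (y' := yx) (by
        simp only [_root_.MonoidHom.map_mul, m1, m2]
        exact congrArg Subtype.val hm)
      refine kill2 b d1 d2 (e := e) fun v => ?_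
      have h5 := he v
      (simp only [_root_.MonoidHom.map_mul, lin_mul_apply, hyx] at h5; assumption)
    · exact psu3 S hC hX hT hXT hN
    · exact k3 (sp6 S hC hX hT hXT hE f)
    · exact k3 (po7 S hC hX hT hXT hp2 hE f)
  · exact cross S hS hna hC hP e hL hX hT hXT

end

end Cfsg.Agent.H823.O8S
end
end

-- part: H823/O8S/Main
section
prune_inst 0x200408000000000080000020000000000420000004000c4200000000002000802041002000000200000100010040000000000000000000000000011c00000000000481480000000010000000000000000000000000000000000000000000000000000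
set_option linter.all false
open scoped Cfsg.Agent.FastGrp

-- part: H332/O8S/NotConj
section
/-!
# S3938-OPLUS8-O10: the two fields `F[J]`, `F[J']` are not conjugate in `Ω⁺₈(q)` (helper332, task 5848)
-/

set_option autoImplicit false
set_option linter.unusedSectionVars false

namespace Cfsg.Agent.H332.O8S

open Module QuadraticMap Cfsg Cfsg.Geo Cfsg.Agent.LieClassical.OrthCore Cfsg.Agent.H955 Cfsg.Agent.H954.TSing
open Cfsg.Agent.LieClassical.OmegaReindex Cfsg.Agent.H823.O8S
open Cfsg.Agent.H951 (fx cm Inv)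
open Cfsg.Agent.H884.El
open Cfsg.Agent.H708.O8 (I8 T8)
open scoped MatrixGroups Matrix

/-! ### invariant subspaces have even dimension -/

section

variable {F : Type*} [Field F]

theorem even_of_quad (c d : F) (irr : ∀ z : F, z * z - c * z + d ≠ 0) : ∀ (n : ℕ) (U : Type*) [AddCommGroup U]
    [Module F U] [FiniteDimensional F U] (j : U →ₗ[F] U), (∀ u, j (j u) = c • j u - d • u) → finrank F U = n →
    Even n := by
  intro n
  induction n using Nat.strong_induction_on with
  | _ n ih =>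
    intro U _ _ _ j hj hn
    by_cases h0 : n = 0
    · subst h0; exact Even.zero
    have : Nontrivial U := by
      rw [← finrank_pos_iff (R := F), hn]
      omega
    obtain ⟨u, hu⟩ := exists_ne (0 : U)
    have hli : LinearIndependent F ![u, j u] := by
      rw [LinearIndependent.pair_iff]
      intro a b hab
      have hb : b = 0 := by
        by_contra hb
        have h1 : j u = (-(b⁻¹ * a)) • u := by
          have h2 : b • j u = -(a • u) := by rw [eq_neg_iff_add_eq_zero, add_comm]; exact hab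
          calc j u = b⁻¹ • (b • j u) := by rw [smul_smul, inv_mul_cancel₀ hb, one_smul]
            _ = (-(b⁻¹ * a)) • u := by rw [h2, smul_neg, smul_smul, neg_smul]
        have h3 := hj u
        rw [h1, map_smul, h1, smul_smul, smul_smul, ← sub_smul] at h3
        have h4 : ((-(b⁻¹ * a)) * (-(b⁻¹ * a)) - c * (-(b⁻¹ * a)) + d) • u = 0 := by
          rw [add_smul, sub_smul, h3, sub_smul]
          abel
        rcases smul_eq_zero.1 h4 with h5 | h5
        · exact irr _ h5
        · exact hu h5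
      rw [hb, zero_smul, add_zero] at hab
      exact ⟨(smul_eq_zero.1 hab).resolve_right hu, hb⟩
    let P : Submodule F U := Submodule.span F (Set.range ![u, j u])
    have hP2 : finrank F P = 2 := by
      have := finrank_span_eq_card hli
      simpa using this
    have hPm : ∀ v, v ∈ P ↔ ∃ a b : F, a • u + b • j u = v := by
      intro v
      show v ∈ Submodule.span F (Set.range ![u, j u]) ↔ _
      rw [Matrix.range_cons, Matrix.range_cons, Matrix.range_empty, Set.union_empty]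
      exact Submodule.mem_span_pair
    have hPi : P ≤ P.comap j := by
      intro v hv
      obtain ⟨a, b, rfl⟩ := (hPm v).1 hv
      rw [Submodule.mem_comap, map_add, map_smul, map_smul, hj]
      exact (hPm _).2 ⟨-(b * d), a + b * c, by module⟩
    have hq := P.finrank_quotient_add_finrank
    rw [hP2, hn] at hq
    have h6 := ih (finrank F (U ⧸ P)) (by omega) (U ⧸ P) (P.mapQ P j hPi) (fun w => by
      obtain ⟨w, rfl⟩ := Submodule.mkQ_surjective P w
      rw [Submodule.mkQ_apply, Submodule.mapQ_apply, Submodule.mapQ_apply, hj]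
      rfl) rfl
    rw [← hq]
    exact h6.add (by decide)

theorem even_of_inv {c d : F} (irr : ∀ z : F, z * z - c * z + d ≠ 0) {V : Type*} [AddCommGroup V] [Module F V]
    [FiniteDimensional F V] {J : Module.End F V} (hJ : J * J = c • J - d • (1 : Module.End F V)) {U : Submodule F V}
    (hU : ∀ v ∈ U, J v ∈ U) : Even (finrank F U) := by
  refine even_of_quad c d irr _ U (J.restrict hU) (fun u => Subtype.ext ?_) rfl
  exact congrArg (fun f : Module.End F V => f (u : V)) hJ

end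

/-! ### the form -/

section

variable {F : Type} [Field F]

/-- the quadratic form -/
abbrev qq (F : Type) [Field F] : QuadraticForm F (I8 → F) := quadPlus 4 F

/-- its polar form -/
abbrev bb (F : Type) [Field F] : LinearMap.BilinForm F (I8 → F) := polarBilin (quadPlus 4 F)

theorem coe_qq (v : I8 → F) : quadFormPlus 4 F v = qq F v := by rw [← coe_quadPlus]

theorem qq_add (u v : I8 → F) : qq F (u + v) = qq F u + qq F v + bb F u v := by
  rw [polarBilin_apply_apply]
  exact QuadraticMap.map_add (quadPlus 4 F) u v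

theorem qq_smul (a : F) (v : I8 → F) : qq F (a • v) = a * a * qq F v := QuadraticMap.map_smul (quadPlus 4 F) a v

theorem bb_comm (u v : I8 → F) : bb F u v = bb F v u := by
  rw [polarBilin_apply_apply, polarBilin_apply_apply, polar_comm]

theorem bb_self (v : I8 → F) : bb F v v = 2 * qq F v := by
  have h := qq_add (F := F) v v
  rw [← two_smul F v, qq_smul] at h
  linear_combination -h

variable {J : Module.End F (I8 → F)} {c d : F} (h : Fld J c d)

include h

theorem Fld.J2 (v : I8 → F) : J (J v) = c • J v - d • v := congrArg (fun f : Module.End F (I8 → F) => f v) h.sq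

theorem Fld.d0 : d ≠ 0 := by
  have := h.irr 0
  intro hd
  apply this
  rw [hd]; ring

theorem Fld.q (v : I8 → F) : qq F (J v) = d * qq F v := by
  have := h.sim v
  rwa [coe_qq, coe_qq] at this

theorem Fld.b (u v : I8 → F) : bb F (J u) (J v) = d * bb F u v := by
  have h1 := qq_add (J u) (J v)
  rw [← map_add, Fld.q h, Fld.q h, Fld.q h, qq_add] at h1
  linear_combination -h1

theorem Fld.two_or [Finite F] : (2 : F) ≠ 0 ∨ c ≠ 0 := by
  by_contra hcon
  push Not at hcon
  have : Fintype F := Fintype.ofFinite F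
  have h2 : ringChar F = 2 := by
    have h3 : ringChar F ∣ 2 := ringChar.dvd (by exact_mod_cast hcon.1)
    rcases (Nat.dvd_prime Nat.prime_two).1 h3 with h4 | h4
    · exact absurd h4 (CharP.ringChar_ne_one)
    · exact h4
  obtain ⟨z, hz⟩ := FiniteField.isSquare_of_char_two h2 d
  apply h.irr z
  rw [hcon.2, hz]
  linear_combination (z * z) * hcon.1

/-- `B(Jv, v) = c Q(v)` -/
theorem Fld.bs [Finite F] (v : I8 → F) : bb F (J v) v = c * qq F v := by
  have h1 := Fld.b h (J v) v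
  rw [Fld.J2 h, map_sub, map_smul, map_smul, LinearMap.sub_apply, LinearMap.smul_apply, LinearMap.smul_apply,
    smul_eq_mul, smul_eq_mul, bb_self, Fld.q h, bb_comm v (J v)] at h1
  have h2 := Fld.q h (J v)
  rw [Fld.J2 h, Fld.q h, sub_eq_add_neg, qq_add, ← neg_smul, qq_smul, qq_smul, map_smul, map_smul, LinearMap.smul_apply,
    smul_eq_mul, smul_eq_mul, Fld.q h] at h2
  have hd := Fld.d0 h
  rcases Fld.two_or h with h3 | h3
  · have h4 : (2 * d) * (bb F (J v) v - c * qq F v) = 0 := by linear_combination -h1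
    have h5 := (mul_eq_zero.1 h4).resolve_left (mul_ne_zero h3 hd)
    exact sub_eq_zero.1 h5
  · have h4 : (c * d) * (bb F (J v) v - c * qq F v) = 0 := by linear_combination -h2
    have h5 := (mul_eq_zero.1 h4).resolve_left (mul_ne_zero h3 hd)
    exact sub_eq_zero.1 h5

/-- the totally singular `F[J]`-subspaces -/
def TSJ (J : Module.End F (I8 → F)) (Y : Submodule F (I8 → F)) : Prop :=
  (∀ v ∈ Y, qq F v = 0) ∧ ∀ v ∈ Y, J v ∈ Y

omit h in
theorem ts_bb {Y : Submodule F (I8 → F)} (hY : ∀ v ∈ Y, qq F v = 0) {u v : I8 → F} (hu : u ∈ Y) (hv : v ∈ Y) :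
    bb F u v = 0 := by
  have h1 := qq_add u v
  rw [hY _ (Y.add_mem hu hv), hY _ hu, hY _ hv] at h1
  linear_combination -h1

omit h in
/-- a bilinear form with diagonal `Q` -/
def ff (F : Type) [Field F] : LinearMap.BilinForm F (I8 → F) :=
  LinearMap.mk₂ F (fun v w => ∑ i : Fin 4, v (.inl i) * w (.inr i))
    (fun u v w => by simp only [Pi.add_apply, add_mul, Finset.sum_add_distrib])
    (fun a v w => by simp only [Pi.smul_apply, smul_eq_mul, mul_assoc, Finset.mul_sum])
    (fun u v w => by simp only [Pi.add_apply, mul_add, Finset.sum_add_distrib])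
    (fun a v w => by
      simp only [Pi.smul_apply, smul_eq_mul, Finset.mul_sum]
      exact Finset.sum_congr rfl fun i _ => by ring)

omit h in
/-- singular vectors in subspaces of dimension at least three -/
theorem exists_sing [Finite F] {C : Submodule F (I8 → F)} (hC : 2 < finrank F C) : ∃ v ∈ C, v ≠ 0 ∧ qq F v = 0 := by
  obtain ⟨u, hu, hf⟩ := H954.CWarn.exists_common_zero (κ := Unit) (fun _ => (ff F).restrict C) (by simpa using hC)
  refine ⟨u, u.2, fun h0 => hu (Subtype.ext h0), ?_⟩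
  rw [← coe_qq]
  exact hf ()

theorem TSJ.step [Finite F] {Y : Submodule F (I8 → F)} (hY : TSJ J Y) (h2 : finrank F Y ≤ 2) :
    ∃ Y', TSJ J Y' ∧ finrank F Y' = finrank F Y + 2 := by
  have hB := LinearMap.BilinForm.finrank_orthogonal (B := bb F) quadPlus_nondegenerate Y
  have h8 : finrank F (I8 → F) = 8 := by simp
  rw [h8] at hB
  have hYo : Y ≤ (bb F).orthogonal Y := fun v hv u hu => ts_bb hY.1 hu hv
  obtain ⟨C0, hC0⟩ := Submodule.exists_isCompl Y
  have hsup : Y ⊔ C0 ⊓ (bb F).orthogonal Y = (bb F).orthogonal Y := by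
    rw [← sup_inf_assoc_of_le C0 hYo, hC0.sup_eq_top, top_inf_eq]
  have hinf : Y ⊓ (C0 ⊓ (bb F).orthogonal Y) = ⊥ := by
    rw [← inf_assoc, hC0.inf_eq_bot, bot_inf_eq]
  have hd := Submodule.finrank_sup_add_finrank_inf_eq Y (C0 ⊓ (bb F).orthogonal Y)
  rw [hsup, hinf, finrank_bot, hB] at hd
  obtain ⟨v, hv, hv0, hqv⟩ := exists_sing (C := C0 ⊓ (bb F).orthogonal Y) (by omega)
  have hvY : v ∉ Y := by
    intro hvY
    have h3 : v ∈ Y ⊓ (C0 ⊓ (bb F).orthogonal Y) := ⟨hvY, hv⟩
    rw [hinf] at h3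
    exact hv0 ((Submodule.mem_bot F).1 h3)
  have hbv : ∀ y ∈ Y, bb F y v = 0 := fun y hy => hv.2 y hy
  have hbJ : ∀ y ∈ Y, bb F y (J v) = 0 := by
    intro y hy
    have h3 : J (c • y - J y) = d • y := by
      rw [map_sub, map_smul, Fld.J2 h]; abel
    have h4 := Fld.b h (c • y - J y) v
    rw [h3, map_smul, LinearMap.smul_apply, smul_eq_mul,
      hbv _ (Y.sub_mem (Y.smul_mem c hy) (hY.2 y hy)), mul_zero] at h4
    exact (mul_eq_zero.1 h4).resolve_left (Fld.d0 h)
  have hJJ : bb F v (J v) = 0 := by rw [bb_comm, Fld.bs h, hqv, mul_zero]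
  have hinv : ∀ w ∈ Y ⊔ Submodule.span F {v, J v}, J w ∈ Y ⊔ Submodule.span F {v, J v} := by
    intro w hw
    obtain ⟨a, ha, b, hb, rfl⟩ := Submodule.mem_sup.1 hw
    obtain ⟨k, l, rfl⟩ := Submodule.mem_span_pair.1 hb
    rw [map_add, map_add, map_smul, map_smul, Fld.J2 h]
    exact Submodule.add_mem_sup (hY.2 a ha) (Submodule.mem_span_pair.2 ⟨-(l * d), k + l * c, by module⟩)
  have hts : ∀ w ∈ Y ⊔ Submodule.span F {v, J v}, qq F w = 0 := by
    intro w hw
    obtain ⟨a, ha, b, hb, rfl⟩ := Submodule.mem_sup.1 hw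
    obtain ⟨k, l, rfl⟩ := Submodule.mem_span_pair.1 hb
    rw [qq_add, qq_add, qq_smul, qq_smul, Fld.q h, hqv, hY.1 a ha]
    simp only [map_add, map_smul, LinearMap.smul_apply, smul_eq_mul, hbv a ha, hbJ a ha, hJJ]
    ring
  refine ⟨_, ⟨hts, hinv⟩, ?_⟩
  have h5 : finrank F ↥(Submodule.span F {v, J v}) ≤ 2 := by
    classical
    have := finrank_span_finset_le_card (R := F) ({v, J v} : Finset (I8 → F))
    rw [Finset.coe_pair] at this
    exact this.trans Finset.card_le_two
  have h6 := Submodule.finrank_add_le_finrank_add_finrank Y (Submodule.span F {v, J v})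
  have h7 : finrank F Y < finrank F ↥(Y ⊔ Submodule.span F {v, J v}) := by
    refine Submodule.finrank_lt_finrank_of_lt (lt_of_le_of_ne le_sup_left fun he => hvY ?_)
    rw [he]
    exact Submodule.mem_sup_right (Submodule.subset_span (Set.mem_insert _ _))
  have h8 := even_of_inv h.irr h.sq hinv
  have h9 := even_of_inv h.irr h.sq hY.2
  obtain ⟨k, hk⟩ := h8
  obtain ⟨l, hl⟩ := h9
  omega

theorem exists_tsj [Finite F] : ∃ Y, TSJ J Y ∧ finrank F Y = 4 := by
  have h0 : TSJ J ⊥ := by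
    refine ⟨fun v hv => ?_, fun v hv => ?_⟩
    · rw [(Submodule.mem_bot F).1 hv]
      exact QuadraticMap.map_zero _
    · rw [(Submodule.mem_bot F).1 hv, map_zero]
      exact Submodule.zero_mem _
  obtain ⟨Y1, h1, e1⟩ := TSJ.step h h0 (by rw [finrank_bot]; norm_num)
  rw [finrank_bot] at e1
  obtain ⟨Y2, h2, e2⟩ := TSJ.step h h1 (by omega)
  exact ⟨Y2, h2, by omega⟩

end

/-! ### the reflection -/

section

variable {F : Type} [Field F]

/-- the reflection in `w` -/
noncomputable def rfl' (w : I8 → F) : Module.End F (I8 → F) where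
  toFun v := v - (bb F v w * (qq F w)⁻¹) • w
  map_add' u v := by
    rw [map_add, LinearMap.add_apply, add_mul, add_smul]; abel
  map_smul' a v := by
    rw [map_smul, LinearMap.smul_apply, smul_eq_mul, RingHom.id_apply, smul_sub, smul_smul, mul_assoc]

theorem rfl'_apply (w v : I8 → F) : rfl' w v = v - (bb F v w * (qq F w)⁻¹) • w := rfl

variable {w : I8 → F} (hw : qq F w ≠ 0)

include hw

theorem rfl'_q (v : I8 → F) : qq F (rfl' w v) = qq F v := by
  rw [rfl'_apply, sub_eq_add_neg, ← neg_smul, qq_add, qq_smul, map_smul, smul_eq_mul]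
  field_simp
  ring

theorem rfl'_rfl' (v : I8 → F) : rfl' w (rfl' w v) = v := by
  rw [rfl'_apply w (rfl' w v), rfl'_apply w v, map_sub, LinearMap.sub_apply, map_smul, LinearMap.smul_apply,
    smul_eq_mul, bb_self]
  have h1 : (bb F v w - bb F v w * (qq F w)⁻¹ * (2 * qq F w)) * (qq F w)⁻¹ = -(bb F v w * (qq F w)⁻¹) := by
    field_simp
    ring
  rw [h1, neg_smul]
  abel

/-- `dim (Y ∩ ρ Y) = 3` -/
theorem finrank_inf_rfl' {Y : Submodule F (I8 → F)} (hY : ∀ v ∈ Y, qq F v = 0) (h4 : finrank F Y = 4) :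
    finrank F ↥(Y ⊓ Y.map (rfl' w)) = 3 := by
  have h8 : finrank F (I8 → F) = 8 := by simp
  -- `Y` is its own orthogonal space
  have hYo : Y ≤ (bb F).orthogonal Y := fun v hv u hu => ts_bb hY hu hv
  have hB := LinearMap.BilinForm.finrank_orthogonal (B := bb F) quadPlus_nondegenerate Y
  rw [h8, h4] at hB
  have hYe : Y = (bb F).orthogonal Y := Submodule.eq_of_le_of_finrank_eq hYo (by rw [h4, hB])
  have hwY : w ∉ Y := fun hh => hw (hY w hh)
  let f : Y →ₗ[F] F := (bb F w).comp Y.subtype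
  have hf0 : f ≠ 0 := by
    intro h0
    apply hwY
    rw [hYe]
    intro u hu
    have h1 : f ⟨u, hu⟩ = 0 := by rw [h0]; rfl
    show bb F u w = 0
    rw [bb_comm]
    exact h1
  have h3 : finrank F (LinearMap.ker f) = 3 := by
    have h5 := LinearMap.finrank_range_add_finrank_ker f
    have h6 : finrank F (LinearMap.range f) = 1 := by
      rw [LinearMap.range_eq_top.2 (LinearMap.surjective_of_ne_zero hf0), finrank_top, finrank_self]
    omega
  have h7 : Y ⊓ Y.map (rfl' w) = (LinearMap.ker f).map Y.subtype := by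
    ext y
    constructor
    · rintro ⟨hy, y1, hy1, e⟩
      rw [rfl'_apply] at e
      have h8 : (bb F y1 w * (qq F w)⁻¹) = 0 := by
        by_contra h0
        apply hwY
        have h9 : w = (bb F y1 w * (qq F w)⁻¹)⁻¹ • (y1 - y) := by
          rw [← e, sub_sub_cancel, smul_smul, inv_mul_cancel₀ h0, one_smul]
        rw [h9]
        exact Y.smul_mem _ (Y.sub_mem hy1 hy)
      rw [h8, zero_smul, sub_zero] at e
      subst e
      refine ⟨⟨y1, hy⟩, ?_, rfl⟩
      have h10 : bb F y1 w = 0 := (mul_eq_zero.1 h8).resolve_right (inv_ne_zero hw)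
      show bb F w y1 = 0
      rw [bb_comm, h10]
    · rintro ⟨⟨y1, hy1⟩, hk, rfl⟩
      have h10 : bb F w y1 = 0 := hk
      refine ⟨hy1, y1, hy1, ?_⟩
      rw [rfl'_apply, bb_comm, h10, zero_mul, zero_smul, sub_zero]
      rfl
  rw [h7, Submodule.finrank_map_subtype_eq]
  exact h3

end

/-! ### the two fields -/

section

variable {F : Type} [Field F]

theorem Fld.eig {J : Module.End F (I8 → F)} {c d : F} (h : Fld J c d) {z : F} {v : I8 → F} (hv : J v = z • v) :
    v = 0 := by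
  have h1 := Fld.J2 h v
  rw [hv, map_smul, hv, smul_smul, smul_smul] at h1
  have h2 : (z * z - c * z + d) • v = 0 := by
    rw [add_smul, sub_smul, h1]; abel
  exact (smul_eq_zero.1 h2).resolve_left (h.irr z)

variable [Fintype F] {x t : GL I8 F} {J J' : Module.End F (I8 → F)} {c d : F} {N : ℕ} (w : Wit x t N)
  (f : Two x t J J' c d)

theorem mem_iso_of {g : GL I8 F} (hg : g ∈ omegaGL (quadFormPlus 4 F)) : g ∈ isometryGroup F (quadFormPlus 4 F) := by
  obtain ⟨y, -, rfl⟩ := hg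
  exact y.2

theorem q_lin {g : GL I8 F} (hg : g ∈ omegaGL (quadFormPlus 4 F)) (v : I8 → F) : qq F (lin g v) = qq F v := by
  have := (H708.O8.mem_iso F).1 (mem_iso_of hg) v
  rwa [coe_qq, coe_qq] at this

theorem b_lin {g : GL I8 F} (hg : g ∈ omegaGL (quadFormPlus 4 F)) (u v : I8 → F) :
    bb F (lin g u) (lin g v) = bb F u v := by
  have h1 := qq_add (lin g u) (lin g v)
  rw [← map_add, q_lin hg, q_lin hg, q_lin hg, qq_add] at h1
  linear_combination -h1

include w in
theorem bb_fx_cm {u v : I8 → F} (hu : u ∈ fx (lin x)) (hv : v ∈ cm (lin x)) : bb F u v = 0 := by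
  obtain ⟨y, rfl⟩ := hv
  rw [LinearMap.sub_apply, Module.End.one_apply, map_sub]
  have h1 := b_lin w.x_mem u y
  rw [H951.mem_fx.1 hu] at h1
  rw [h1, sub_self]

include f in
theorem J_fx {v : I8 → F} (hv : v ∈ fx (lin x)) : J v ∈ fx (lin x) := by
  rw [H951.mem_fx] at hv ⊢
  have h1 : J (lin x v) = lin x (J v) := congrArg (fun g : Module.End F (I8 → F) => g v) f.cx
  rw [← h1, hv]

include f in
theorem J_cm {v : I8 → F} (hv : v ∈ cm (lin x)) : J v ∈ cm (lin x) := by
  obtain ⟨y, rfl⟩ := hv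
  have h1 : J (lin x y) = lin x (J y) := congrArg (fun g : Module.End F (I8 → F) => g y) f.cx
  refine ⟨J y, ?_⟩
  rw [LinearMap.sub_apply, LinearMap.sub_apply, map_sub, h1]
  rfl

include f in
theorem fx_inf_cm : fx (lin x) ⊓ cm (lin x) = ⊥ := by
  rw [eq_bot_iff]
  rintro v ⟨h1, h2⟩
  rw [Submodule.mem_bot]
  have h3 := f.agree v h2
  rw [f.conj v h1] at h3
  have h4 : (2 : F) • J v = c • v := by
    rw [two_smul]
    nth_rw 1 [← h3]
    abel
  by_cases h5 : (2 : F) = 0
  · have hc := (Fld.two_or f.fJ).resolve_left (by simpa only [_root_.ne_eq, _root_.Classical.not_not] using h5)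
    rw [h5, zero_smul] at h4
    exact (smul_eq_zero.1 h4.symm).resolve_left hc
  · refine Fld.eig f.fJ (z := 2⁻¹ * c) ?_
    rw [mul_smul, ← h4, smul_smul, inv_mul_cancel₀ h5, one_smul]

include w in
theorem finrank_fx : finrank F (fx (lin x)) = 2 := by
  have h1 := LinearMap.finrank_range_add_finrank_ker (lin x - 1)
  have h8 : finrank F (I8 → F) = 8 := by simp
  have h2 : finrank F (LinearMap.range (lin x - 1)) = 6 := w.x_dim
  rw [h2, h8] at h1
  exact Nat.add_left_cancel (n := 6) (m := finrank F (LinearMap.ker (lin x - 1))) (k := 2) h1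

include w f in
theorem fx_sup_cm : fx (lin x) ⊔ cm (lin x) = ⊤ := by
  apply Submodule.eq_top_of_finrank_eq
  have h1 := Submodule.finrank_sup_add_finrank_inf_eq (fx (lin x)) (cm (lin x))
  rw [fx_inf_cm f, finrank_bot, finrank_fx w, w.x_dim] at h1
  have h8 : finrank F (I8 → F) = 8 := by simp
  omega

include w f in
theorem exists_ns : ∃ v ∈ fx (lin x), qq F v ≠ 0 := by
  by_contra hcon
  push Not at hcon
  have h1 : fx (lin x) = ⊥ := by
    rw [eq_bot_iff]
    intro v hv
    rw [Submodule.mem_bot]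
    apply quadPlus_nondegenerate.1
    intro u
    have hu : u ∈ fx (lin x) ⊔ cm (lin x) := by rw [fx_sup_cm w f]; exact Submodule.mem_top
    obtain ⟨a, ha, b, hb, rfl⟩ := Submodule.mem_sup.1 hu
    have e1 : bb F v a = 0 := ts_bb hcon hv ha
    have e2 : bb F v b = 0 := bb_fx_cm w hv hb
    rw [map_add]
    exact (congrArg₂ (· + ·) e1 e2).trans (add_zero 0)
  have h2 := finrank_fx w
  rw [h1, finrank_bot] at h2
  omega

include w f in
/-- the reflection exchanges the two fields -/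
theorem conj_rfl' {v0 : I8 → F} (hv0 : v0 ∈ fx (lin x)) (hq : qq F v0 ≠ 0) (v : I8 → F) :
    J' (rfl' v0 v) = rfl' v0 (J v) := by
  have hne : v0 ≠ 0 := fun h0 => hq (by rw [h0]; exact QuadraticMap.map_zero _)
  -- the vectors of `W`
  have hP : Submodule.span F {v0, J v0} = fx (lin x) := by
    have hle : Submodule.span F {v0, J v0} ≤ fx (lin x) := by
      rw [Submodule.span_le]
      rintro u (rfl | rfl)
      · exact hv0
      · exact J_fx f hv0
    apply Submodule.eq_of_le_of_finrank_le hle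
    rw [finrank_fx w]
    have hinv : ∀ u ∈ Submodule.span F {v0, J v0}, J u ∈ Submodule.span F {v0, J v0} := by
      intro u hu
      obtain ⟨k, l, rfl⟩ := Submodule.mem_span_pair.1 hu
      rw [map_add, map_smul, map_smul, Fld.J2 f.fJ]
      exact Submodule.mem_span_pair.2 ⟨-(l * d), k + l * c, by module⟩
    obtain ⟨k, hk⟩ := even_of_inv f.fJ.irr f.fJ.sq hinv
    have hpos : 0 < finrank F ↥(Submodule.span F {v0, J v0}) := by
      rw [Module.finrank_pos_iff]
      exact ⟨⟨⟨v0, Submodule.subset_span (Set.mem_insert _ _)⟩, 0, fun h0 => hne (congrArg Subtype.val h0)⟩⟩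
    omega
  have e0 : rfl' v0 v0 = -v0 := by
    rw [rfl'_apply, bb_self, mul_assoc, mul_inv_cancel₀ hq, mul_one, two_smul]
    abel
  have e1 : rfl' v0 (J v0) = J v0 - c • v0 := by
    rw [rfl'_apply, Fld.bs f.fJ, mul_assoc, mul_inv_cancel₀ hq, mul_one]
  have hv : v ∈ fx (lin x) ⊔ cm (lin x) := by rw [fx_sup_cm w f]; exact Submodule.mem_top
  obtain ⟨a, ha, b, hb, rfl⟩ := Submodule.mem_sup.1 hv
  have ea : J' (rfl' v0 a) = rfl' v0 (J a) := by
    rw [← hP] at ha
    obtain ⟨k, l, rfl⟩ := Submodule.mem_span_pair.1 ha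
    have hJ0 := f.conj v0 hv0
    have hJ1 := f.conj (J v0) (J_fx f hv0)
    simp only [map_add, map_smul, map_sub, map_neg, e0, e1, Fld.J2 f.fJ, hJ0, hJ1]
    module
  have eb : J' (rfl' v0 b) = rfl' v0 (J b) := by
    have h1 : rfl' v0 b = b := by
      rw [rfl'_apply, bb_comm, bb_fx_cm w hv0 hb, zero_mul, zero_smul, sub_zero]
    have h2 : rfl' v0 (J b) = J b := by
      rw [rfl'_apply, bb_comm, bb_fx_cm w hv0 (J_cm f hb), zero_mul, zero_smul, sub_zero]
    rw [h1, h2, f.agree b hb]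
  rw [map_add, map_add, map_add, map_add, ea, eb]

end

/-! ### the theorem -/

section

variable {F : Type} [Field F] [Fintype F] {p a r k : ℕ} {x t : GL I8 F} {J J' : Module.End F (I8 → F)} {c d : F}

/-- elements of `Ω` preserve the families -/
theorem even_omega {g : GL I8 F} (hg : g ∈ omegaGL (quadFormPlus 4 F)) {Y : Submodule F (I8 → F)}
    (hY : ∀ v ∈ Y, qq F v = 0) (h4 : finrank F Y = 4) : Even (finrank F ↥(Y ⊓ H708.O8.tr g Y)) := by
  have hY' : ∀ v ∈ Y, quadFormPlus 4 F v = 0 := fun v hv => by rw [coe_qq]; exact hY v hv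
  have hi := mem_iso_of hg
  have hX := H708.O8.even_of_omega hg
  have h1 := H708.O8.even_three (F := F) H708.O8.finrank_XX ((H708.O8.finrank_tr g _).trans H708.O8.finrank_XX)
    ((H708.O8.finrank_tr g Y).trans h4) H708.O8.ts_XX (H708.O8.ts_tr hi H708.O8.ts_XX) (H708.O8.ts_tr hi hY')
  rw [← H708.O8.tr_inf, H708.O8.finrank_tr] at h1
  have h2 := H708.O8.even_three (F := F) H708.O8.finrank_XX h4 ((H708.O8.finrank_tr g Y).trans h4) H708.O8.ts_XX hY'
    (H708.O8.ts_tr hi hY')
  rw [Nat.even_iff] at *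
  omega

/-- `F[J]` and `F[J']` are not conjugate in `Ω⁺₈(q)`; no hypothesis on `q` or on the order of `x` -/
theorem not_conj' {N : ℕ} (w : Wit x t N) (f : Two x t J J' c d)
    {g : GL I8 F} (hg : g ∈ omegaGL (quadFormPlus 4 F)) :
    ¬ ((∀ v, lin g (J v) = J' (lin g v)) ∨ (∀ v, lin g (J v) = c • lin g v - J' (lin g v))) := by
  intro hcon
  obtain ⟨Y, hY, h4⟩ := exists_tsj f.fJ
  obtain ⟨v0, hv0, hq⟩ := exists_ns w f
  have hc := conj_rfl' w f hv0 hq
  have h3 := finrank_inf_rfl' hq hY.1 h4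
  have hinj : Function.Injective (rfl' v0) := fun u v e => by rw [← rfl'_rfl' hq u, e, rfl'_rfl' hq]
  have h4' : finrank F ↥(Y.map (rfl' v0)) = 4 :=
    (Submodule.equivMapOfInjective (rfl' v0) hinj Y).finrank_eq.symm.trans h4
  have hts' : ∀ v ∈ Y.map (rfl' v0), qq F v = 0 := by
    rintro _ ⟨y, hy, rfl⟩
    rw [rfl'_q hq]
    exact hY.1 y hy
  have hJ' : ∀ v ∈ Y.map (rfl' v0), J' v ∈ Y.map (rfl' v0) := by
    rintro _ ⟨y, hy, rfl⟩
    rw [hc]
    exact ⟨J y, hY.2 y hy, rfl⟩
  have hgJ : ∀ v ∈ H708.O8.tr g Y, J' v ∈ H708.O8.tr g Y := by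
    rintro _ ⟨y, hy, rfl⟩
    rcases hcon with h | h
    · rw [← h y]
      exact ⟨J y, hY.2 y hy, rfl⟩
    · have h1 : J' (lin g y) = lin g (c • y - J y) := by
        rw [map_sub, map_smul, h y]; abel
      rw [h1]
      exact ⟨_, Y.sub_mem (Y.smul_mem c hy) (hY.2 y hy), rfl⟩
  have e1 := even_omega hg hY.1 h4
  have e2 : Even (finrank F ↥(H708.O8.tr g Y ⊓ Y.map (rfl' v0))) :=
    even_of_inv f.fJ'.irr f.fJ'.sq fun v hv => ⟨hgJ v hv.1, hJ' v hv.2⟩
  have hY' : ∀ v ∈ Y, quadFormPlus 4 F v = 0 := fun v hv => by rw [coe_qq]; exact hY.1 v hv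
  have e3 := H708.O8.even_three (F := F) h4 ((H708.O8.finrank_tr g Y).trans h4) h4' hY'
    (H708.O8.ts_tr (mem_iso_of hg) hY') (fun v hv => by rw [coe_qq]; exact hts' v hv)
  rw [h3] at e3
  rw [Nat.even_iff] at *
  omega

end

end Cfsg.Agent.H332.O8S
end

-- part: H264/O8S/Abs
section
/-!
# S3938-OPLUS8 (O9): linear algebra with a field `F[J]` of similitudes (helper264)
-/

set_option autoImplicit false
set_option linter.unusedSectionVars false

namespace Cfsg.Agent.H264.O8S

open Module QuadraticMap Cfsg.Agent.LieClassical.OrthCore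
open Cfsg.Agent.H951 (fx cm Inv mem_fx mem_cm)

variable {F V : Type*} [Field F] [AddCommGroup V] [Module F V]

/-- `F[J]` is a field of similitudes -/
structure JF (Q : QuadraticForm F V) (J : Module.End F V) (c d : F) : Prop where
  sq : ∀ v, J (J v) = c • J v - d • v
  irr : ∀ z : F, z * z - c * z + d ≠ 0
  sim : ∀ v, Q (J v) = d * Q v

variable {Q : QuadraticForm F V} {J : Module.End F V} {c d : F}

theorem JF.d0 (h : JF Q J c d) : d ≠ 0 := by
  intro h0
  apply h.irr 0
  rw [h0]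
  ring

/-- in characteristic two `c ≠ 0` -/
theorem JF.c0 [Finite F] (h : JF Q J c d) (h2 : (2 : F) = 0) : c ≠ 0 := by
  intro h0
  have : CharP F 2 := CharTwo.of_one_ne_zero_of_two_eq_zero one_ne_zero h2
  have := Fintype.ofFinite F
  obtain ⟨z, hz⟩ : ∃ z : F, z * z = d := by
    have h1 := FiniteField.isSquare_of_char_two (F := F) (by rw [ringChar.eq F 2]) d
    obtain ⟨z, hz⟩ := h1
    exact ⟨z, hz.symm⟩
  apply h.irr z
  rw [h0, hz]
  have : d + d = 2 * d := by ring
  rw [zero_mul, sub_zero, this, h2, zero_mul]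

theorem JF.inj (h : JF Q J c d) {v : V} (hv : J v = 0) : v = 0 := by
  have h1 := h.sq v
  rw [hv, map_zero, smul_zero, zero_sub, eq_comm, neg_eq_zero, smul_eq_zero] at h1
  exact h1.resolve_left h.d0

/-- `J` has no eigenvectors -/
theorem JF.eig (h : JF Q J c d) {v : V} {l : F} (hv : J v = l • v) : v = 0 := by
  have h1 := h.sq v
  rw [hv, map_smul, hv] at h1
  have h2 : (l * l - c * l + d) • v = 0 := by
    rw [add_smul, sub_smul, mul_smul, mul_smul, h1]
    module
  exact (smul_eq_zero.1 h2).resolve_left (h.irr l)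

theorem JF.comb (h : JF Q J c d) {v : V} (hv : v ≠ 0) {a b : F} (hab : a • v + b • J v = 0) : a = 0 ∧ b = 0 := by
  by_cases hb : b = 0
  · rw [hb, zero_smul, add_zero, smul_eq_zero] at hab
    exact ⟨hab.resolve_right hv, hb⟩
  · exfalso
    apply hv
    apply h.eig (l := -(b⁻¹ * a))
    have h1 : b⁻¹ • (a • v + b • J v) = 0 := by rw [hab, smul_zero]
    rw [smul_add, smul_smul, smul_smul, inv_mul_cancel₀ hb, one_smul] at h1
    rw [neg_smul, eq_neg_iff_add_eq_zero, add_comm, h1]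

/-- `(2 J - c)` is injective -/
theorem JF.two [Finite F] (h : JF Q J c d) {v : V} (hv : (2 : F) • J v = c • v) : v = 0 := by
  by_cases h2 : (2 : F) = 0
  · rw [h2, zero_smul, eq_comm, smul_eq_zero] at hv
    exact hv.resolve_left (h.c0 h2)
  · apply h.eig (l := 2⁻¹ * c)
    rw [mul_smul, ← hv, smul_smul, inv_mul_cancel₀ h2, one_smul]

theorem JF.polar_JJ (h : JF Q J c d) (v w : V) : polar Q (J v) (J w) = d * polar Q v w := by
  simp only [polar, ← map_add, h.sim]
  ring

/-- the adjoint of `J` is `c - J` -/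
theorem JF.adj (h : JF Q J c d) (v w : V) : polar Q (J v) w = polar Q v (c • w - J w) := by
  have h1 : J (c • w - J w) = d • w := by
    rw [map_sub, map_smul, h.sq]
    abel
  have h2 := h.polar_JJ v (c • w - J w)
  rw [h1, polar_smul_right, smul_eq_mul] at h2
  exact mul_left_cancel₀ h.d0 h2

theorem JF.adj' (h : JF Q J c d) (v w : V) : polar Q (J v) w = c * polar Q v w - polar Q v (J w) := by
  rw [h.adj, polar_sub_right, polar_smul_right, smul_eq_mul]

theorem JF.polar_self [Finite F] (h : JF Q J c d) (v : V) : polar Q (J v) v = c * Q v := by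
  have h1 := h.adj' v v
  by_cases h2 : (2 : F) = 0
  · have hc := h.c0 h2
    have h3 := h.sim (J v)
    rw [h.sim v, h.sq v] at h3
    have h4 : Q (c • J v - d • v) = c * c * (d * Q v) + d * d * Q v - c * d * polar Q (J v) v := by
      rw [sub_eq_add_neg, ← neg_smul, Q_add, QuadraticMap.map_smul, QuadraticMap.map_smul, polar_smul_left,
        polar_smul_right, h.sim]
      simp only [smul_eq_mul]
      ring
    rw [h4] at h3
    have h5 : c * d * (c * Q v - polar Q (J v) v) = 0 := by linear_combination h3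
    rcases mul_eq_zero.1 h5 with h6 | h6
    · exact absurd h6 (mul_ne_zero hc h.d0)
    · exact (sub_eq_zero.1 h6).symm
  · rw [polar_self', polar_comm Q v (J v)] at h1
    have h3 : 2 * (polar Q (J v) v - c * Q v) = 0 := by linear_combination h1
    rcases mul_eq_zero.1 h3 with h4 | h4
    · exact absurd h4 h2
    · exact sub_eq_zero.1 h4

/-- the span of `v`, `J v` -/
def sp (J : Module.End F V) (v : V) : Submodule F V := Submodule.span F {v, J v}

theorem mem_sp {v y : V} : y ∈ sp J v ↔ ∃ a b : F, a • v + b • J v = y := Submodule.mem_span_pair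

theorem JF.finrank_sp (h : JF Q J c d) {v : V} (hv : v ≠ 0) : finrank F (sp J v) = 2 := by
  have h1 : LinearIndependent F ![v, J v] := by
    rw [LinearIndependent.pair_iff]
    intro a b hab
    exact h.comb hv hab
  have h2 := finrank_span_eq_card h1
  rw [Fintype.card_fin, Matrix.range_cons, Matrix.range_cons, Matrix.range_empty, Set.union_empty] at h2
  exact h2

theorem JF.inv_sp (h : JF Q J c d) {v y : V} (hy : y ∈ sp J v) : J y ∈ sp J v := by
  obtain ⟨a, b, rfl⟩ := mem_sp.1 hy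
  refine mem_sp.2 ⟨-(b * d), a + b * c, ?_⟩
  rw [map_add, map_smul, map_smul, h.sq]
  module

/-- a singular vector has a singular `F[J]`-line -/
theorem JF.Q_sp [Finite F] (h : JF Q J c d) {v y : V} (hv : Q v = 0) (hy : y ∈ sp J v) : Q y = 0 := by
  obtain ⟨a, b, rfl⟩ := mem_sp.1 hy
  rw [Q_add, QuadraticMap.map_smul, QuadraticMap.map_smul, polar_smul_left, polar_smul_right, h.sim, polar_comm,
    h.polar_self, hv]
  simp

/-- the rotation `r_{J n} r_n` commutes with `J` -/
theorem JF.rot_apply [Finite F] (h : JF Q J c d) {n : V} (hn : Q n ≠ 0) (hn' : Q (J n) ≠ 0) (v : V) :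
    (refl Q (J n) hn' * refl Q n hn) v = v - ((Q n)⁻¹ * polar Q n v) • n
      - ((Q n)⁻¹ * d⁻¹ * polar Q (J n) v - (Q n)⁻¹ * polar Q n v * c * d⁻¹) • J n := by
  have hd := h.d0
  rw [LinearEquiv.mul_apply, refl_apply, refl_apply, h.sim, polar_sub_right, polar_smul_right, h.polar_self]
  match_scalars
  · ring
  · ring
  · simp only [smul_eq_mul]
    field_simp

theorem JF.rot_comm [Finite F] (h : JF Q J c d) {n : V} (hn : Q n ≠ 0) (hn' : Q (J n) ≠ 0) (v : V) :
    (refl Q (J n) hn' * refl Q n hn) (J v) = J ((refl Q (J n) hn' * refl Q n hn) v) := by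
  have hd := h.d0
  rw [h.rot_apply, h.rot_apply, map_sub, map_sub, map_smul, map_smul, h.sq, h.polar_JJ]
  have h1 : polar Q n (J v) = c * polar Q n v - polar Q (J n) v := by
    rw [h.adj']
    ring
  rw [h1]
  match_scalars
  · ring
  · field_simp
    ring
  · field_simp
    ring

end Cfsg.Agent.H264.O8S
end

-- part: H264/O8S/Cfg
section
/-!
# S3938-OPLUS8 (O9): the configuration `V = W ⊥ U` (helper264)
-/

set_option autoImplicit false
set_option linter.unusedSectionVars false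

namespace Cfsg.Agent.H264.O8S

open Module QuadraticMap Cfsg.Agent.LieClassical.OrthCore
open Cfsg.Agent.H951 (fx cm Inv mem_fx mem_cm)

variable {F V : Type*} [Field F] [AddCommGroup V] [Module F V]

/-- `W = C_V(x)`, `U = [V, x]` -/
structure Cfg (Q : QuadraticForm F V) (x : V ≃ₗ[F] V) (W U : Submodule F V) : Prop where
  nd : Nondeg Q
  mem : x ∈ O Q
  compl : IsCompl W U
  dW : finrank F W = 2
  dU : finrank F U = 6
  memW : ∀ y, y ∈ W ↔ x y = y
  memU : ∀ y, y ∈ U ↔ ∃ v, x v - v = y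
  low : ∀ Y : Submodule F V, (∀ y ∈ Y, x y ∈ Y) → finrank F Y ≤ 5 → Y ≤ W

variable {Q : QuadraticForm F V} {x : V ≃ₗ[F] V} {W U : Submodule F V} {J J' : Module.End F V} {c d : F}

theorem Cfg.perp (h : Cfg Q x W U) {w u : V} (hw : w ∈ W) (hu : u ∈ U) : polar Q w u = 0 := by
  obtain ⟨v, rfl⟩ := (h.memU u).1 hu
  have h1 := polar_map h.mem w v
  rw [(h.memW w).1 hw] at h1
  rw [polar_sub_right, h1, sub_self]

theorem Cfg.split (h : Cfg Q x W U) (v : V) : ∃ w ∈ W, ∃ u ∈ U, w + u = v := by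
  have : v ∈ W ⊔ U := by rw [h.compl.sup_eq_top]; trivial
  exact Submodule.mem_sup.1 this

theorem Cfg.nd_W (h : Cfg Q x W U) {w : V} (hw : w ∈ W) (h0 : ∀ w' ∈ W, polar Q w w' = 0) : w = 0 := by
  apply h.nd
  intro y
  obtain ⟨w', hw', u', hu', rfl⟩ := h.split y
  rw [polar_add_right, h0 w' hw', h.perp hw hu', add_zero]

theorem Cfg.nd_U (h : Cfg Q x W U) {u : V} (hu : u ∈ U) (h0 : ∀ u' ∈ U, polar Q u u' = 0) : u = 0 := by
  apply h.nd
  intro y
  obtain ⟨w', hw', u', hu', rfl⟩ := h.split y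
  rw [polar_add_right, h0 u' hu', polar_comm, h.perp hw' hu, add_zero]

theorem Cfg.perp_W (h : Cfg Q x W U) {y : V} (h0 : ∀ w ∈ W, polar Q y w = 0) : y ∈ U := by
  obtain ⟨w, hw, u, hu, rfl⟩ := h.split y
  have : w = 0 := h.nd_W hw fun w' hw' => by
    have h1 := h0 w' hw'
    rwa [polar_add_left, polar_comm Q u w', h.perp hw' hu, add_zero] at h1
  rw [this, zero_add]
  exact hu

theorem Cfg.zero (h : Cfg Q x W U) {y : V} (h1 : y ∈ W) (h2 : y ∈ U) : y = 0 :=
  Submodule.disjoint_def.1 h.compl.disjoint y h1 h2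

/-- isometries preserving `W` preserve `U` -/
theorem Cfg.pres (h : Cfg Q x W U) {g : V ≃ₗ[F] V} (hg : g ∈ O Q) (hW : ∀ w ∈ W, ∃ w' ∈ W, g w' = w) {u : V}
    (hu : u ∈ U) : g u ∈ U := by
  apply h.perp_W
  intro w hw
  obtain ⟨w', hw', rfl⟩ := hW w hw
  rw [polar_map hg, polar_comm, h.perp hw' hu]

theorem Cfg.x_U (h : Cfg Q x W U) {u : V} (hu : u ∈ U) : x u ∈ U := by
  obtain ⟨v, rfl⟩ := (h.memU u).1 hu
  exact (h.memU _).2 ⟨x v, by rw [map_sub]⟩

theorem Cfg.J_W (h : Cfg Q x W U) (hJ : ∀ v, J (x v) = x (J v)) {w : V} (hw : w ∈ W) : J w ∈ W := by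
  rw [h.memW, ← hJ, (h.memW w).1 hw]

theorem Cfg.J_U (h : Cfg Q x W U) (hJ : ∀ v, J (x v) = x (J v)) {u : V} (hu : u ∈ U) : J u ∈ U := by
  obtain ⟨v, rfl⟩ := (h.memU u).1 hu
  exact (h.memU _).2 ⟨J v, by rw [map_sub, hJ]⟩

theorem Cfg.exists_W (h : Cfg Q x W U) : ∃ w ∈ W, w ≠ 0 := by
  have h1 : W ≠ ⊥ := by
    intro h0
    have := h.dW
    rw [h0, finrank_bot] at this
    omega
  exact Submodule.exists_mem_ne_zero_of_ne_bot h1

/-- `W` is anisotropic -/
theorem Cfg.anis [Finite F] [FiniteDimensional F V] (h : Cfg Q x W U) (hJ : JF Q J c d) (hx : ∀ v, J (x v) = x (J v)) {w : V} (hw : w ∈ W)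
    (h0 : Q w = 0) : w = 0 := by
  by_contra hne
  have h1 : sp J w ≤ W := by
    rw [sp, Submodule.span_le]
    rintro y (rfl | rfl)
    · exact hw
    · exact h.J_W hx hw
  have h2 : sp J w = W := Submodule.eq_of_le_of_finrank_eq h1 (by rw [hJ.finrank_sp hne, h.dW])
  apply hne
  apply h.nd_W hw
  intro w' hw'
  rw [← h2] at hw'
  have hws : w ∈ sp J w := mem_sp.2 ⟨1, 0, by rw [one_smul, zero_smul, add_zero]⟩
  have h3 := hJ.Q_sp h0 (Submodule.add_mem _ hws hw')
  rw [Q_add, h0, hJ.Q_sp h0 hw', zero_add, zero_add] at h3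
  exact h3

theorem Cfg.exists_U (h : Cfg Q x W U) : ∃ u ∈ U, Q u ≠ 0 := by
  by_contra hcon
  push Not at hcon
  have h1 : U = ⊥ := by
    rw [eq_bot_iff]
    intro u hu
    rw [Submodule.mem_bot]
    apply h.nd_U hu
    intro u' hu'
    have h2 := hcon _ (U.add_mem hu hu')
    rw [Q_add, hcon _ hu, hcon _ hu', zero_add, zero_add] at h2
    exact h2
  have := h.dU
  rw [h1, finrank_bot] at this
  omega

/-- `x u` does not lie in `F[J] u` -/
theorem Cfg.not_sp [FiniteDimensional F V] (h : Cfg Q x W U) (hJ : JF Q J c d) (hx : ∀ v, J (x v) = x (J v))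
    {u : V} (hu : u ∈ U) (h0 : u ≠ 0) : x u ∉ sp J u := by
  intro h1
  have h2 : sp J u ≤ W := by
    apply h.low
    · intro y hy
      obtain ⟨a, b, rfl⟩ := mem_sp.1 hy
      rw [map_add, map_smul, map_smul, ← hx]
      exact Submodule.add_mem _ (Submodule.smul_mem _ _ h1) (Submodule.smul_mem _ _ (hJ.inv_sp h1))
    · rw [hJ.finrank_sp h0]
      norm_num
  exact h0 (h.zero (h2 (mem_sp.2 ⟨1, 0, by rw [one_smul, zero_smul, add_zero]⟩)) hu)

theorem JF.sp_eq [FiniteDimensional F V] (hJ : JF Q J c d) {u z : V} (hu : u ≠ 0) (h : u ∈ sp J z) (hz : z ≠ 0) : sp J u = sp J z := by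
  apply Submodule.eq_of_le_of_finrank_eq
  · rw [sp, Submodule.span_le]
    rintro y (rfl | rfl)
    · exact h
    · exact hJ.inv_sp h
  · rw [hJ.finrank_sp hu, hJ.finrank_sp hz]

/-- the product of two reflections in `U`: it fixes `W` pointwise and does not normalise `F[J]` -/
theorem Cfg.exists_a [Finite F] [FiniteDimensional F V] (h : Cfg Q x W U) (hJ : JF Q J c d)
    (hx : ∀ v, J (x v) = x (J v)) : ∃ R ∈ O Q, (∀ w ∈ W, (R * x * R⁻¹ * x⁻¹) w = w) ∧
      ¬ ((∀ v, (R * x * R⁻¹ * x⁻¹) (J v) = J ((R * x * R⁻¹ * x⁻¹) v)) ∨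
        (∀ v, (R * x * R⁻¹ * x⁻¹) (J v) = c • (R * x * R⁻¹ * x⁻¹) v - J ((R * x * R⁻¹ * x⁻¹) v))) := by
  obtain ⟨u, hu, hQu⟩ := h.exists_U
  have hu0 : u ≠ 0 := by
    rintro rfl
    exact hQu (QuadraticMap.map_zero Q)
  have hQx : Q (x u) ≠ 0 := by rwa [mem_O.1 h.mem]
  have hg : refl Q u hQu * x * (refl Q u hQu)⁻¹ * x⁻¹ = refl Q u hQu * refl Q (x u) hQx := by
    rw [mul_assoc, mul_assoc, ← mul_assoc x, refl_inv, refl_conj h.mem hQu hQx]
  have hfix : ∀ w ∈ W, (refl Q u hQu * refl Q (x u) hQx) w = w := by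
    intro w hw
    rw [LinearEquiv.mul_apply, refl_apply, refl_apply, polar_comm Q (x u), h.perp hw (h.x_U hu), mul_zero, zero_smul,
      sub_zero, polar_comm Q u, h.perp hw hu, mul_zero, zero_smul, sub_zero]
  have hns := h.not_sp hJ hx hu hu0
  refine ⟨refl Q u hQu, refl_mem_O hQu, ?_, ?_⟩
  · rw [hg]
    exact hfix
  rw [hg]
  have hval : ∀ v, ∃ b : F, (refl Q u hQu * refl Q (x u) hQx) v - v = (-((Q (x u))⁻¹ * polar Q (x u) v)) • x u + b • u := by
    intro v
    rw [LinearEquiv.mul_apply, refl_apply, refl_apply]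
    refine ⟨-((Q u)⁻¹ * polar Q u (v - ((Q (x u))⁻¹ * polar Q (x u) v) • x u)), ?_⟩
    module
  rintro (h1 | h1)
  · obtain ⟨v, hv⟩ := h.nd.exists_polar_ne (x := x u) (by
      intro h0
      rw [h0] at hQx
      exact hQx (QuadraticMap.map_zero Q))
    set g := refl Q u hQu * refl Q (x u) hQx with hgdef
    set z := g v - v with hz
    obtain ⟨b, hb⟩ := hval v
    obtain ⟨b', hb'⟩ := hval (J v)
    have hJz : J z = g (J v) - J v := by rw [hz, map_sub, h1]
    have hz0 : z ≠ 0 := by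
      intro h0
      rw [← hz, h0] at hb
      apply hns
      have hα : (Q (x u))⁻¹ * polar Q (x u) v ≠ 0 := mul_ne_zero (inv_ne_zero hQx) hv
      refine mem_sp.2 ⟨((Q (x u))⁻¹ * polar Q (x u) v)⁻¹ * b, 0, ?_⟩
      rw [zero_smul, add_zero, mul_smul]
      have h3 : b • u = ((Q (x u))⁻¹ * polar Q (x u) v) • x u := by
        have h4 : b • u = - ((-((Q (x u))⁻¹ * polar Q (x u) v)) • x u) := by
          rw [eq_neg_iff_add_eq_zero, add_comm]
          exact hb.symm
        rw [h4]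
        module
      rw [h3, smul_smul, inv_mul_cancel₀ hα, one_smul]
    have h5 : sp J z ≤ Submodule.span F {x u, u} := by
      rw [sp, Submodule.span_le]
      rintro y (rfl | rfl)
      · exact Submodule.mem_span_pair.2 ⟨_, _, hb.symm⟩
      · rw [hJz]
        exact Submodule.mem_span_pair.2 ⟨_, _, hb'.symm⟩
    have h6 : sp J z = Submodule.span F {x u, u} := by
      apply Submodule.eq_of_le_of_finrank_le h5
      rw [hJ.finrank_sp hz0]
      have h8 := finrank_range_le_card (R := F) ![x u, u]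
      rw [Fintype.card_fin, Matrix.range_cons, Matrix.range_cons, Matrix.range_empty, Set.union_empty] at h8
      exact h8
    have h7 : u ∈ sp J z := by
      rw [h6]
      exact Submodule.subset_span (by simp)
    apply hns
    rw [hJ.sp_eq hu0 h7 hz0, h6]
    exact Submodule.subset_span (by simp)
  · obtain ⟨w, hw, hw0⟩ := h.exists_W
    have h2 := h1 w
    rw [hfix w hw, hfix _ (h.J_W hx hw)] at h2
    apply hw0
    apply hJ.two
    rw [two_smul]
    nth_rewrite 1 [h2]
    abel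

/-- the rotation in the `F[J]`-line of `n = w + u` -/
theorem Cfg.exists_b [Finite F] [FiniteDimensional F V] (h : Cfg Q x W U) (hJ : JF Q J c d)
    (hx : ∀ v, J (x v) = x (J v)) : ∃ R ∈ O Q, (∀ v, (R * x * R⁻¹ * x⁻¹) (J v) = J ((R * x * R⁻¹ * x⁻¹) v)) ∧
      ∃ w ∈ W, (R * x * R⁻¹ * x⁻¹) w ∉ W := by
  obtain ⟨w, hw, hw0⟩ := h.exists_W
  obtain ⟨u, hu, hu0, hQu⟩ := Cfsg.Agent.LieClassical.OrthFinite.exists_sing_mem (Q := Q) U (by rw [h.dU]; norm_num)
  have hQw : Q w ≠ 0 := fun h0 => hw0 (h.anis hJ hx hw h0)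
  obtain ⟨n, hn⟩ : ∃ n, n = w + u := ⟨_, rfl⟩
  have hQn : Q n ≠ 0 := by
    rw [hn, Q_add, hQu, h.perp hw hu, add_zero, add_zero]
    exact hQw
  have hQJ : Q (J n) ≠ 0 := by
    rw [hJ.sim]
    exact mul_ne_zero hJ.d0 hQn
  set R := refl Q (J n) hQJ * refl Q n hQn with hR
  have hRO : R ∈ O Q := (O Q).mul_mem (refl_mem_O hQJ) (refl_mem_O hQn)
  have hRJ : ∀ v, R (J v) = J (R v) := hJ.rot_comm hQn hQJ
  have hinv : ∀ g : V ≃ₗ[F] V, (∀ v, g (J v) = J (g v)) → ∀ v, g⁻¹ (J v) = J (g⁻¹ v) := by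
    intro g hg v
    apply g.injective
    rw [hg, ← LinearEquiv.mul_apply, ← LinearEquiv.mul_apply, mul_inv_cancel, LinearEquiv.coe_one, id, id]
  have hxJ : ∀ v, x (J v) = J (x v) := fun v => (hx v).symm
  refine ⟨R, hRO, ?_, ?_⟩
  · intro v
    rw [LinearEquiv.mul_apply, LinearEquiv.mul_apply, LinearEquiv.mul_apply, hinv x hxJ, hinv R hRJ, hxJ, hRJ]
    rfl
  by_contra hcon
  push Not at hcon
  -- `R⁻¹ W` is invariant under `x`
  have hxinv : ∀ w ∈ W, x⁻¹ w = w := by
    intro w hw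
    apply x.injective
    rw [← LinearEquiv.mul_apply, mul_inv_cancel, LinearEquiv.coe_one, id, (h.memW w).1 hw]
  have h1 : ∀ w ∈ W, R (x (R⁻¹ w)) ∈ W := by
    intro w hw
    have := hcon w hw
    rwa [LinearEquiv.mul_apply, LinearEquiv.mul_apply, LinearEquiv.mul_apply, hxinv w hw] at this
  have hRR : ∀ v, R (R⁻¹ v) = v := fun v => by
    rw [← LinearEquiv.mul_apply, mul_inv_cancel, LinearEquiv.coe_one, id]
  have hRR' : ∀ v, R⁻¹ (R v) = v := fun v => by
    rw [← LinearEquiv.mul_apply, inv_mul_cancel, LinearEquiv.coe_one, id]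
  have h2 : W.map (R.symm : V →ₗ[F] V) ≤ W := by
    apply h.low
    · rintro _ ⟨y, hy, rfl⟩
      exact ⟨R (x (R.symm y)), h1 y hy, R.symm_apply_apply _⟩
    · rw [LinearEquiv.finrank_map_eq, h.dW]
      norm_num
  have h3 : W.map (R.symm : V →ₗ[F] V) = W :=
    Submodule.eq_of_le_of_finrank_eq h2 (LinearEquiv.finrank_map_eq _ _)
  have h4 : ∀ w' ∈ W, R w' ∈ W := by
    intro w' hw'
    rw [← h3] at hw'
    obtain ⟨y, hy, rfl⟩ := hw'
    rw [LinearEquiv.coe_coe, R.apply_symm_apply]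
    exact hy
  apply hw0
  apply h.nd_W hw
  intro w' hw'
  have h5 := h4 w' hw'
  rw [hR, hJ.rot_apply] at h5
  obtain ⟨a, ha⟩ : ∃ a, a = (Q n)⁻¹ * polar Q n w' := ⟨_, rfl⟩
  obtain ⟨b, hb⟩ : ∃ b, b = (Q n)⁻¹ * d⁻¹ * polar Q (J n) w' - (Q n)⁻¹ * polar Q n w' * c * d⁻¹ := ⟨_, rfl⟩
  rw [← hb, ← ha] at h5
  have h6 : a • u + b • J u ∈ W := by
    have h7 : a • u + b • J u = w' - (w' - a • n - b • J n) - (a • w + b • J w) := by
      rw [hn, map_add]
      module
    rw [h7]
    exact W.sub_mem (W.sub_mem hw' h5) (W.add_mem (W.smul_mem _ hw) (W.smul_mem _ (h.J_W hx hw)))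
  have h7 := h.zero h6 (U.add_mem (U.smul_mem _ hu) (U.smul_mem _ (h.J_U hx hu)))
  have h8 := (hJ.comb hu0 h7).1
  rw [ha, mul_eq_zero] at h8
  have h9 := h8.resolve_left (inv_ne_zero hQn)
  rwa [hn, polar_add_left, polar_comm Q u w', h.perp hw' hu, add_zero] at h9

/-- elements normalising `F[J]` and `F[J']` preserve `W` -/
theorem Cfg.three [Finite F] [FiniteDimensional F V] (h : Cfg Q x W U) (hJ : JF Q J c d)
    (hx : ∀ v, J (x v) = x (J v)) (hx' : ∀ v, J' (x v) = x (J' v)) (hU : ∀ u ∈ U, J' u = J u)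
    (hW : ∀ w ∈ W, J' w = c • w - J w) {g : V ≃ₗ[F] V}
    (h1 : (∀ v, g (J v) = J (g v)) ∨ (∀ v, g (J v) = c • g v - J (g v)))
    (h2 : (∀ v, g (J' v) = J' (g v)) ∨ (∀ v, g (J' v) = c • g v - J' (g v))) : ∀ w ∈ W, g w ∈ W := by
  -- `2 J - c` is onto on `W`
  have hsurj : ∀ w ∈ W, ∃ w' ∈ W, J w' - J' w' = w := by
    let T : W →ₗ[F] W := ((J - J').restrict (p := W) (q := W) fun w hw => by
      rw [LinearMap.sub_apply]
      exact W.sub_mem (h.J_W hx hw) (h.J_W hx' hw))
    have hT : Function.Injective T := by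
      rw [injective_iff_map_eq_zero]
      intro y hy
      have h3 : J (y : V) - J' (y : V) = 0 := congrArg Subtype.val hy
      rw [hW _ y.2] at h3
      apply Subtype.ext
      apply hJ.two
      rw [two_smul, ← sub_eq_zero, ← h3]
      abel
    have hT' : Function.Surjective T := LinearMap.injective_iff_surjective.1 hT
    intro w hw
    obtain ⟨y, hy⟩ := hT' ⟨w, hw⟩
    exact ⟨y, y.2, congrArg Subtype.val hy⟩
  -- the range of `J - J'` is `W`
  have hrg : ∀ v, J v - J' v ∈ W := by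
    intro v
    obtain ⟨w, hw, u, hu, rfl⟩ := h.split v
    rw [map_add, map_add, hU u hu, add_sub_add_right_eq_sub]
    exact W.sub_mem (h.J_W hx hw) (h.J_W hx' hw)
  -- the kernel of `J + J' - c` is `W`
  have hker : ∀ v, J v + J' v - c • v = 0 → v ∈ W := by
    intro v hv
    obtain ⟨w, hw, u, hu, rfl⟩ := h.split v
    rw [map_add, map_add, hU u hu, hW w hw] at hv
    have h3 : (2 : F) • J u = c • u := by
      rw [two_smul, ← sub_eq_zero, ← hv, smul_add]
      abel
    rw [hJ.two h3, add_zero]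
    exact hw
  have hdim : ¬ ∀ u ∈ U, g u ∈ W := by
    intro hcon
    have h3 : U.map (g : V →ₗ[F] V) ≤ W := by
      rintro _ ⟨u, hu, rfl⟩
      exact hcon u hu
    have h4 := Submodule.finrank_mono h3
    rw [LinearEquiv.finrank_map_eq, h.dU, h.dW] at h4
    omega
  rcases h1 with h1 | h1 <;> rcases h2 with h2 | h2
  · intro w hw
    obtain ⟨w', -, rfl⟩ := hsurj w hw
    rw [map_sub, h1, h2]
    exact hrg _
  · exfalso
    apply hdim
    intro u hu
    apply hker
    have h3 := h1 u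
    have h4 := h2 u
    rw [hU u hu, h3] at h4
    rw [h4]
    abel
  · exfalso
    apply hdim
    intro u hu
    apply hker
    have h3 := h1 u
    have h4 := h2 u
    rw [hU u hu, h3] at h4
    rw [← h4]
    abel
  · intro w hw
    obtain ⟨w', -, rfl⟩ := hsurj w hw
    rw [map_sub, h1, h2]
    have h3 : c • g w' - J (g w') - (c • g w' - J' (g w')) = -(J (g w') - J' (g w')) := by abel
    rw [h3]
    exact W.neg_mem (hrg _)

/-- elements preserving `W` and normalising `F[J]` normalise `F[J']` -/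
theorem Cfg.one (h : Cfg Q x W U) (hU : ∀ u ∈ U, J' u = J u)
    (hW : ∀ w ∈ W, J' w = c • w - J w) {g : V ≃ₗ[F] V} (hg : g ∈ O Q) (hgW : W.map (g : V →ₗ[F] V) = W)
    (h1 : (∀ v, g (J v) = J (g v)) ∨ (∀ v, g (J v) = c • g v - J (g v))) :
    (∀ v, g (J' v) = J' (g v)) ∨ (∀ v, g (J' v) = c • g v - J' (g v)) := by
  have hgw : ∀ w ∈ W, g w ∈ W := fun w hw => by
    rw [← hgW]
    exact ⟨w, hw, rfl⟩
  have hgu : ∀ u ∈ U, g u ∈ U := fun u hu => h.pres hg (fun w hw => by
    rw [← hgW] at hw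
    obtain ⟨w', hw', rfl⟩ := hw
    exact ⟨w', hw', rfl⟩) hu
  rcases h1 with h1 | h1
  · left
    intro v
    obtain ⟨w, hw, u, hu, rfl⟩ := h.split v
    rw [map_add J', hU u hu, hW w hw, map_add, map_sub, map_smul, h1, h1, map_add g, map_add J', hU _ (hgu u hu),
      hW _ (hgw w hw)]
  · right
    intro v
    obtain ⟨w, hw, u, hu, rfl⟩ := h.split v
    rw [map_add J', hU u hu, hW w hw, map_add, map_sub, map_smul, h1, h1, map_add g, map_add J', hU _ (hgu u hu),
      hW _ (hgw w hw), smul_add]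
    abel

end Cfsg.Agent.H264.O8S
end

-- part: H264/O8S/NineU
section
/-!
# S3938-OPLUS8 (O9): the three overgroups (helper264)
-/

set_option autoImplicit false
set_option linter.unusedSectionVars false

namespace Cfsg.Agent.H264.O8S

open Module QuadraticMap Cfsg Cfsg.Geo Cfsg.Agent.LieClassical.OrthCore Cfsg.Agent.H955 Cfsg.Agent.H954.TSing
open Cfsg.Agent.LieClassical.OmegaReindex
open Cfsg.Agent.LieClassical.OrthFinite (glEquiv glEquiv_apply)
open Cfsg.Agent.H951 (fx cm Inv mem_fx mem_cm)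
open Cfsg.Agent.H884.El
open Cfsg.Agent.H708.O8 (I8 T8)
open Cfsg.Agent.H823.O8S
open scoped MatrixGroups Matrix commutatorElement

section tp

variable {F : Type} [Field F] [Fintype F]

/-- membership in `tp H` if `H` contains the scalars `±1` -/
theorem mem_tp {H : Subgroup (GL I8 F)} (hH : ∀ z : GL I8 F, ((z : Matrix I8 I8 F) = 1 ∨ (z : Matrix I8 I8 F) = -1) → z ∈ H)
    {g : Omega F (quadFormPlus 4 F)} :
    QuotientGroup.mk' (Subgroup.center (Omega F (quadFormPlus 4 F))) g ∈ tp H ↔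
      ((g : isometryGroup F (quadFormPlus 4 F)) : GL I8 F) ∈ H := by
  refine ⟨?_, mk_mem_tp⟩
  rintro ⟨g', hg', he⟩
  simp only [QuotientGroup.mk'_apply, QuotientGroup.mk'_apply, QuotientGroup.eq] at he
  have h1 : ∀ z : Omega F (quadFormPlus 4 F), z ∈ Subgroup.center (Omega F (quadFormPlus 4 F)) →
      ((((z : isometryGroup F (quadFormPlus 4 F)) : GL I8 F) : Matrix I8 I8 F) = 1 ∨
      (((z : isometryGroup F (quadFormPlus 4 F)) : GL I8 F) : Matrix I8 I8 F) = -1) := by
    rw [← coe_quadPlus]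
    intro z hz
    exact (LieClassical.OmegaCenter.mem_center_omega_iff (quadPlus 4 F) quadPlus_nondegenerate (by decide)
      (quadPlus_isotropic (by norm_num)) z).1 hz
  have h2 := hH _ (h1 _ he)
  have h3 : ((g : isometryGroup F (quadFormPlus 4 F)) : GL I8 F) =
      ((g' : isometryGroup F (quadFormPlus 4 F)) : GL I8 F) *
        (((g'⁻¹ * g : Omega F (quadFormPlus 4 F)) : isometryGroup F (quadFormPlus 4 F)) : GL I8 F) := by
    rw [← Subgroup.coe_mul, ← Subgroup.coe_mul, mul_inv_cancel_left]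
  rw [h3]
  exact H.mul_mem hg' h2

theorem lin_eq (g : GL I8 F) : lin g = ((glEquiv I8 F g : (I8 → F) ≃ₗ[F] (I8 → F)) : (I8 → F) →ₗ[F] (I8 → F)) :=
  LinearMap.ext fun _ => rfl

theorem lin_of_neg {z : GL I8 F} (hz : (z : Matrix I8 I8 F) = -1) (v : I8 → F) : lin z v = -v := by
  rw [lin, hz, Matrix.toLin'_apply, Matrix.neg_mulVec, Matrix.one_mulVec]

theorem lin_of_one {z : GL I8 F} (hz : (z : Matrix I8 I8 F) = 1) (v : I8 → F) : lin z v = v := by
  rw [lin, hz, Matrix.toLin'_apply, Matrix.one_mulVec]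

theorem scal_NJ (J : Module.End F (I8 → F)) (c : F) (z : GL I8 F)
    (hz : (z : Matrix I8 I8 F) = 1 ∨ (z : Matrix I8 I8 F) = -1) : z ∈ NJ J c := by
  refine Or.inl fun v => ?_
  rcases hz with hz | hz
  · rw [lin_of_one hz, lin_of_one hz]
  · rw [lin_of_neg hz, lin_of_neg hz, map_neg]

theorem scal_SW (W : Submodule F (I8 → F)) (z : GL I8 F)
    (hz : (z : Matrix I8 I8 F) = 1 ∨ (z : Matrix I8 I8 F) = -1) : z ∈ SW W := by
  rw [mem_SW]
  ext v
  rw [Submodule.mem_map]
  rcases hz with hz | hz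
  · constructor
    · rintro ⟨w, hw, rfl⟩
      rwa [lin_of_one hz]
    · intro hv
      exact ⟨v, hv, lin_of_one hz v⟩
  · constructor
    · rintro ⟨w, hw, rfl⟩
      rw [lin_of_neg hz]
      exact W.neg_mem hw
    · intro hv
      exact ⟨-v, W.neg_mem hv, by rw [lin_of_neg hz, neg_neg]⟩

theorem tp_inf {A B C : Subgroup (GL I8 F)}
    (hA : ∀ z : GL I8 F, ((z : Matrix I8 I8 F) = 1 ∨ (z : Matrix I8 I8 F) = -1) → z ∈ A)
    (hB : ∀ z : GL I8 F, ((z : Matrix I8 I8 F) = 1 ∨ (z : Matrix I8 I8 F) = -1) → z ∈ B)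
    (h : ∀ g : GL I8 F, g ∈ isometryGroup F (quadFormPlus 4 F) → g ∈ A → g ∈ B → g ∈ C) : tp A ⊓ tp B ≤ tp C := by
  rintro y ⟨h1, h2⟩
  obtain ⟨g, rfl⟩ := QuotientGroup.mk'_surjective _ y
  exact mk_mem_tp (h _ (g : isometryGroup F (quadFormPlus 4 F)).2 ((mem_tp hA).1 h1) ((mem_tp hB).1 h2))

/-- commutators with `x` lie in `Ω` -/
theorem tp_not_le {A B : Subgroup (GL I8 F)} {x R : GL I8 F} (hx : x ∈ isometryGroup F (quadFormPlus 4 F))
    (hR : R ∈ isometryGroup F (quadFormPlus 4 F))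
    (hB : ∀ z : GL I8 F, ((z : Matrix I8 I8 F) = 1 ∨ (z : Matrix I8 I8 F) = -1) → z ∈ B)
    (h1 : R * x * R⁻¹ * x⁻¹ ∈ A) (h2 : R * x * R⁻¹ * x⁻¹ ∉ B) : ¬ tp A ≤ tp B := by
  intro h
  obtain ⟨g, hg⟩ : ∃ g : Omega F (quadFormPlus 4 F),
      ((g : isometryGroup F (quadFormPlus 4 F)) : GL I8 F) = R * x * R⁻¹ * x⁻¹ := by
    have h3 : ⁅(⟨R, hR⟩ : isometryGroup F (quadFormPlus 4 F)), ⟨x, hx⟩⁆ ∈ Omega F (quadFormPlus 4 F) :=
      Subgroup.commutator_mem_commutator (Subgroup.mem_top _) (Subgroup.mem_top _)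
    exact ⟨⟨_, h3⟩, rfl⟩
  apply h2
  rw [← hg]
  apply (mem_tp hB).1
  apply h
  apply mk_mem_tp
  rw [hg]
  exact h1

end tp

section cfg

variable {F : Type} [Field F] [Fintype F] {p a r k : ℕ} {x t : GL I8 F} {J J' : Module.End F (I8 → F)} {c d : F}

theorem cast_ne (h : RW p a r k) (hF : Nat.card F = p ^ a) : (r : F) ≠ 0 := by
  intro h0
  have h1 : (p : F) = 0 := by
    have h2 : ((Nat.card F : ℕ) : F) = 0 := by
      rw [Nat.card_eq_fintype_card]
      exact FiniteField.cast_card_eq_zero F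
    rw [hF, Nat.cast_pow] at h2
    exact pow_eq_zero_iff (by have := h.ha; omega) |>.1 h2
  have h2 : Nat.Coprime r p := (Nat.Prime.coprime_iff_not_dvd h.prim.prime).2 h.prim.not_dvd
  have h3 : IsCoprime (r : ℤ) (p : ℤ) := Nat.isCoprime_iff_coprime.2 h2
  obtain ⟨u, v, huv⟩ := h3
  have h4 := congrArg (Int.cast : ℤ → F) huv
  push_cast at h4
  rw [h0, h1, mul_zero, mul_zero, add_zero] at h4
  exact zero_ne_one h4

theorem cfg_of (hF : Nat.card F = p ^ a) (h : RW p a r k) (w : Wit x t (r ^ k)) :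
    Cfg (quadPlus 4 F) (glEquiv I8 F x) (fx (lin x)) (cm (lin x)) := by
  have hr := Fact.mk h.prim.prime
  have hk := h.hk
  have hrF := cast_ne h hF
  have hrk : ((r ^ k : ℕ) : F) ≠ 0 := by
    rw [Nat.cast_pow]
    exact pow_ne_zero _ hrF
  have hxk : x ^ (r ^ k) = 1 := by rw [← w.x_ord]; exact pow_orderOf_eq_one x
  have hX : lin x ^ (r ^ k) = 1 := by rw [← lin_pow, hxk, lin_one]
  have hcompl := H951.isCompl_fx_cm hrk hX
  have hdim := H951.finrank_fx_add_cm hrk hX
  have h8 : finrank F (I8 → F) = 8 := by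
    rw [Module.finrank_fintype_fun_eq_card]
    rfl
  have hdW : finrank F (fx (lin x)) = 2 := by
    rw [w.x_dim, h8] at hdim
    omega
  -- the element of order `r`
  obtain ⟨y, hy⟩ : ∃ y, y = x ^ (r ^ (k - 1)) := ⟨_, rfl⟩
  have hy1 : y ^ r = 1 := by
    rw [hy, ← pow_mul, ← hxk]
    congr 1
    obtain ⟨m, rfl⟩ := Nat.exists_eq_add_of_le' hk
    rw [Nat.add_sub_cancel, pow_succ]
  have hy0 : y ≠ 1 := by
    intro h0
    rw [hy] at h0
    have h1 := orderOf_dvd_of_pow_eq_one h0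
    rw [w.x_ord] at h1
    have h2 := (Nat.pow_dvd_pow_iff_le_right h.prim.prime.one_lt).1 h1
    omega
  have hY : lin y ^ r = 1 := by rw [← lin_pow, hy1, lin_one]
  have hord : orderOf (Fintype.card F : ZMod r) = 6 := by
    have := h.pp.ord
    rwa [← hF, Nat.card_eq_fintype_card] at this
  have hdiv : ∀ Z : Submodule F (I8 → F), _root_.Cfsg.Agent.H951.Inv (lin y) Z → Z ≤ cm (lin y) → 6 ∣ finrank F Z := by
    intro Z hZ hle
    have := H951.ord_dvd_finrank hY hZ (H951.inf_fx_of_le_cm hrF hY hle)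
    rwa [hord] at this
  have hcle : cm (lin y) ≤ cm (lin x) := by
    rintro v hv
    obtain ⟨u, rfl⟩ := mem_cm.1 hv
    have h1 : lin y - 1 = (lin x - 1) * ∑ i ∈ Finset.range (r ^ (k - 1)), lin x ^ i := by
      rw [hy, lin_pow]
      exact (mul_geom_sum (lin x) (r ^ (k - 1))).symm
    have h2 := LinearMap.congr_fun h1 u
    rw [LinearMap.sub_apply, Module.End.one_apply] at h2
    rw [h2, Module.End.mul_apply]
    exact ⟨_, rfl⟩
  have hc0 : finrank F (cm (lin y)) ≠ 0 := by
    intro h0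
    apply hy0
    have h1 : cm (lin y) = ⊥ := Submodule.finrank_eq_zero.1 h0
    have h2 : lin y = lin 1 := by
      ext1 v
      apply LinearMap.ext
      intro b
      have h3 : lin y ((LinearMap.single F (fun _ => F) v) b) - (LinearMap.single F (fun _ => F) v) b ∈ cm (lin y) :=
        mem_cm.2 ⟨_, rfl⟩
      rw [h1, Submodule.mem_bot, sub_eq_zero] at h3
      rw [LinearMap.comp_apply, LinearMap.comp_apply, h3, lin_one, Module.End.one_apply]
    apply Units.ext
    exact Matrix.toLin'.injective h2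
  have hc6 : finrank F (cm (lin y)) = 6 := by
    have h1 := hdiv _ H951.inv_cm le_rfl
    have h2 := Submodule.finrank_mono hcle
    rw [w.x_dim] at h2
    have h3 := Nat.le_of_dvd (Nat.pos_of_ne_zero hc0) h1
    omega
  have hfle : fx (lin x) ≤ fx (lin y) := by
    intro v hv
    rw [mem_fx] at hv ⊢
    rw [hy, lin_pow]
    exact H951.pow_fx hv _
  have hfeq : fx (lin x) = fx (lin y) := by
    apply Submodule.eq_of_le_of_finrank_eq hfle
    have h1 := H951.finrank_fx_add_cm hrF hY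
    rw [hc6, h8] at h1
    omega
  refine ⟨nondeg_iff.2 quadPlus_nondegenerate, ?_, hcompl, hdW, w.x_dim, fun y => mem_fx, fun y => mem_cm, ?_⟩
  · have h1 : x ∈ isometryGroup F (quadFormPlus 4 F) := by
      obtain ⟨g, -, hg⟩ := w.x_mem
      rw [← hg]
      exact g.2
    rw [← coe_quadPlus, LieClassical.OrthFinite.mem_isometryGroup_iff] at h1
    exact h1
  · intro Z hZ hZ5
    have hZx : _root_.Cfsg.Agent.H951.Inv (lin x) Z := fun z hz => hZ z hz
    have hZy : _root_.Cfsg.Agent.H951.Inv (lin y) Z := by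
      rw [hy, lin_pow]
      exact hZx.pow _
    have h1 := H951.finrank_inf_add hrF hY hZy
    have h2 := hdiv (Z ⊓ cm (lin y)) (hZy.inf H951.inv_cm) inf_le_right
    have h3 := Submodule.finrank_mono (inf_le_left : Z ⊓ cm (lin y) ≤ Z)
    have h4 : finrank F ↥(Z ⊓ cm (lin y)) = 0 := by
      rcases Nat.eq_zero_or_pos (finrank F ↥(Z ⊓ cm (lin y))) with h5 | h5
      · exact h5
      · have := Nat.le_of_dvd h5 h2
        omega
    have h5 : Z ⊓ fx (lin y) = Z := Submodule.eq_of_le_of_finrank_eq inf_le_left (by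
      rw [h4, add_zero] at h1
      exact h1)
    rw [hfeq, ← h5]
    exact inf_le_right

theorem jf_of (f : Fld J c d) : JF (quadPlus 4 F) J c d := by
  refine ⟨fun v => ?_, f.irr, fun v => ?_⟩
  · have := LinearMap.congr_fun f.sq v
    rwa [Module.End.mul_apply, LinearMap.sub_apply, LinearMap.smul_apply, LinearMap.smul_apply,
      Module.End.one_apply] at this
  · rw [coe_quadPlus]
    exact f.sim v

theorem comm_of {T : Module.End F (I8 → F)} (h : T * lin x = lin x * T) (v : I8 → F) :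
    T (glEquiv I8 F x v) = glEquiv I8 F x (T v) := LinearMap.congr_fun h v

theorem two_symm (f : Two x t J J' c d) : Two x t J' J c d :=
  ⟨f.fJ', f.fJ, f.cx', f.ct', f.cx, f.ct, fun v hv => (f.agree v hv).symm, fun v hv => by
    rw [f.conj v hv]
    abel⟩

theorem iso_O {g : GL I8 F} (hg : g ∈ isometryGroup F (quadFormPlus 4 F)) : glEquiv I8 F g ∈ O (quadPlus 4 F) := by
  rw [← coe_quadPlus, LieClassical.OrthFinite.mem_isometryGroup_iff] at hg
  exact hg

theorem O_iso {R : (I8 → F) ≃ₗ[F] (I8 → F)} (hR : R ∈ O (quadPlus 4 F)) :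
    (glEquiv I8 F).symm R ∈ isometryGroup F (quadFormPlus 4 F) := by
  rw [← coe_quadPlus, LieClassical.OrthFinite.mem_isometryGroup_iff]
  intro v
  rw [← glEquiv_apply, MulEquiv.apply_symm_apply]
  exact hR v

/-- (O9) the three overgroups -/
theorem u_inf_w (hF : Nat.card F = p ^ a) (h : RW p a r k) (w : Wit x t (r ^ k)) (f : Two x t J J' c d) :
    U₁ x ⊓ U₂ J c ≤ U₂ J' c ∧ U₁ x ⊓ U₂ J' c ≤ U₂ J c ∧ U₂ J c ⊓ U₂ J' c ≤ U₁ x := by
  have hC := cfg_of hF h w
  have hone : ∀ {J J' : Module.End F (I8 → F)}, Two x t J J' c d → U₁ x ⊓ U₂ J c ≤ U₂ J' c := by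
    intro J J' f
    refine tp_inf (scal_SW _) (scal_NJ _ _) ?_
    intro g hg h1 h2
    exact hC.one f.agree f.conj (iso_O hg) (by rw [mem_SW, lin_eq] at h1; exact h1) h2
  refine ⟨hone f, hone (two_symm f), tp_inf (scal_NJ _ _) (scal_NJ _ _) ?_⟩
  intro g hg h1 h2
  have h3 := hC.three (jf_of f.fJ) (comm_of f.cx) (comm_of f.cx') f.agree f.conj (g := glEquiv I8 F g) h1 h2
  rw [mem_SW, lin_eq]
  apply Submodule.eq_of_le_of_finrank_eq
  · rintro _ ⟨v, hv, rfl⟩
    exact h3 v hv
  · exact LinearEquiv.finrank_map_eq _ _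

theorem u_not_le_w (hF : Nat.card F = p ^ a) (h : RW p a r k) (w : Wit x t (r ^ k)) (f : Two x t J J' c d) :
    ¬ U₁ x ≤ U₂ J c ∧ ¬ U₂ J c ≤ U₁ x ∧ U₁ x ≠ ⊤ ∧ U₂ J c ≠ ⊤ := by
  have hC := cfg_of hF h w
  have hx : x ∈ isometryGroup F (quadFormPlus 4 F) := by
    obtain ⟨g, -, hg⟩ := w.x_mem
    rw [← hg]
    exact g.2
  have hcv : ∀ R : (I8 → F) ≃ₗ[F] (I8 → F), ∀ v,
      lin ((glEquiv I8 F).symm R * x * ((glEquiv I8 F).symm R)⁻¹ * x⁻¹) v =
        (R * glEquiv I8 F x * R⁻¹ * (glEquiv I8 F x)⁻¹) v := by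
    intro R v
    rw [lin_eq, LinearEquiv.coe_coe, map_mul, map_mul, map_mul, map_inv, map_inv, MulEquiv.apply_symm_apply]
  have h1 : ¬ U₁ x ≤ U₂ J c := by
    obtain ⟨R, hR, h2, h3⟩ := hC.exists_a (jf_of f.fJ) (comm_of f.cx)
    refine tp_not_le hx (O_iso hR) (scal_NJ _ _) ?_ ?_
    · rw [mem_SW]
      ext v
      rw [Submodule.mem_map]
      constructor
      · rintro ⟨y, hy, rfl⟩
        rw [hcv, h2 y hy]
        exact hy
      · intro hv
        exact ⟨v, hv, by rw [hcv, h2 v hv]⟩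
    · intro h4
      apply h3
      rcases h4 with h4 | h4
      · left
        intro v
        rw [← hcv, ← hcv, h4 v]
      · right
        intro v
        rw [← hcv, ← hcv, h4 v]
  have h2 : ¬ U₂ J c ≤ U₁ x := by
    obtain ⟨R, hR, h2, y, hy, h3⟩ := hC.exists_b (jf_of f.fJ) (comm_of f.cx)
    refine tp_not_le hx (O_iso hR) (scal_SW _) (Or.inl fun v => ?_) ?_
    · rw [hcv, hcv, h2 v]
    · intro h4
      apply h3
      rw [mem_SW] at h4
      rw [← hcv, ← h4]
      exact ⟨y, hy, rfl⟩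
  exact ⟨h1, h2, fun h3 => h2 (h3 ▸ le_top), fun h3 => h1 (h3 ▸ le_top)⟩

theorem u_not_le (hF : Nat.card F = p ^ a) (h : RK p a r k) (w : Wit x t (r ^ k)) (f : Two x t J J' c d) :
    ¬ U₁ x ≤ U₂ J c ∧ ¬ U₂ J c ≤ U₁ x ∧ U₁ x ≠ ⊤ ∧ U₂ J c ≠ ⊤ := u_not_le_w hF h.weak w f

end cfg

end Cfsg.Agent.H264.O8S
end

-- part: H938/Spr/Three
section
/-!
# 3/2-generation: three (or more) overgroups (helper938, for helper862's S3938)

* `spr_of_moving` : the general form.  `s` has finitely many maximal overgroups `𝓜`; every invariant proper subgroup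
  through `s` lies in an invariant member of `𝓜`; and whenever `a` moves `U ∈ 𝓜` some `y ∈ U` is such that `a` moves all
  `y M y⁻¹`, `M ∈ 𝓜`, `M ≠ U`.
* `spr_of_three` : three pairwise non-conjugate overgroups `U₁, U₂, U₃` with `U i ⊓ U j ≤ U k` (all automorphisms, also
  those which permute the three classes: triality).
* `spr_of_three'` : `U₂ ⊓ U₃ ≤ U₁`, no automorphism carries `U₁` to a conjugate of `U₂` or `U₃` (`U₂`, `U₃` may be conjugate).
* `_up` versions for a surjection `f : G →* L`.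
-/

set_option autoImplicit false
set_option linter.unusedSectionVars false

namespace Cfsg.Agent.H938.Spr

open scoped Pointwise
open Cfsg.Agent.H424.Spr

variable {L : Type*} [Group L] [IsSimpleGroup L] [Finite L]

theorem smul_c_conj (a : MulAut L) (y : L) (M : Subgroup L) :
    (c y⁻¹ * a * c y) • M = c y⁻¹ • (a • (c y • M)) := by
  rw [mul_smul, mul_smul]

theorem c_inv_smul (y : L) (M : Subgroup L) : c y⁻¹ • (c y • M) = M := by
  rw [smul_smul, ← map_mul, inv_mul_cancel, map_one, one_smul]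

theorem c_smul_inv (y : L) (M : Subgroup L) : c y • (c y⁻¹ • M) = M := by
  rw [smul_smul, ← map_mul, mul_inv_cancel, map_one, one_smul]

theorem fix_conj_iff (a : MulAut L) (y : L) (M : Subgroup L) :
    (c y⁻¹ * a * c y) • M = M ↔ a • (c y • M) = c y • M := by
  rw [smul_c_conj]
  constructor
  · intro h
    rw [← c_smul_inv y (a • (c y • M)), h]
  · intro h
    rw [h, c_inv_smul]

/-- an invariant proper subgroup is stable -/
theorem smul_eq_of_inv {a : MulAut L} {K : Subgroup L} (h : ∀ k ∈ K, a k ∈ K) : a • K = K := by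
  apply SetLike.coe_injective
  apply Set.eq_of_subset_of_ncard_le _ _ (Set.toFinite _)
  · rintro _ ⟨k, hk, rfl⟩
    exact h k hk
  · have : ((a • K : Subgroup L) : Set L) = a '' (K : Set L) := rfl
    rw [this, Set.ncard_image_of_injective _ a.injective]

/-- the maximal overgroups of an invariant subgroup are permuted -/
theorem smul_mem_over {s : L} {𝓜 : Set (Subgroup L)} (hco : ∀ N : Subgroup L, IsCoatom N → s ∈ N → N ∈ 𝓜)
    {a : MulAut L} {K M : Subgroup L} (hs : s ∈ K) (hinv : ∀ k ∈ K, a k ∈ K) (hM : IsCoatom M) (hKM : K ≤ M) :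
    K ≤ a • M ∧ a • M ∈ 𝓜 := by
  have h1 : K ≤ a • M := by
    rw [← smul_eq_of_inv hinv]
    exact Subgroup.pointwise_smul_le_pointwise_smul_iff.2 hKM
  exact ⟨h1, hco _ (coatom_smul a hM) (h1 hs)⟩

/-- **The two-lemma**: `a` cannot fix one of `y A y⁻¹`, `y B y⁻¹` for all `y` (`A`, `B` coatoms, possibly conjugate). -/
theorem eq_one_of_two (hna : ∃ x y : L, x * y ≠ y * x) {M₁ M₂ : Subgroup L} (h1 : IsCoatom M₁) (h2 : IsCoatom M₂)
    {a : MulAut L} (alt' : ∀ y : L, a • (c y • M₁) = c y • M₁ ∨ a • (c y • M₂) = c y • M₂) : a = 1 := by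
  refine eq_one_of_fix hna h1 fun y₀ => ?_
  by_contra hmv
  set A := c y₀ • M₁ with hA
  set B := c y₀ • M₂ with hB
  have hAc : IsCoatom A := coatom_smul _ h1
  have hBc : IsCoatom B := coatom_smul _ h2
  have fixB : ∀ m ∈ A, a • (c m • B) = c m • B := by
    intro m hm
    have h3 := alt' (m * y₀)
    rw [map_mul, mul_smul, mul_smul, ← hA, ← hB, c_smul_self hm] at h3
    exact h3.resolve_left hmv
  let I : Subgroup L := ⨅ m : A, c (m : L) • B
  have hI : ∀ x, x ∈ I ↔ ∀ m ∈ A, x ∈ c m • B := by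
    intro x
    simp only [I, Subgroup.mem_iInf, Subtype.forall]
  have hin : ∀ m ∈ A, m⁻¹ * a m ∈ I := by
    intro m hm
    rw [hI]
    intro m' hm'
    have h3 : c (a m) • (c m' • B) = c m • (c m' • B) := by
      have h4 := fixB (m * m') (mul_mem hm hm')
      rw [map_mul, mul_smul, a_smul_c, fixB m' hm'] at h4
      exact h4
    have h5 : c (m⁻¹ * a m) • (c m' • B) = c m' • B := by
      rw [map_mul, mul_smul, h3, smul_smul, ← map_mul, inv_mul_cancel, map_one, one_smul]
    have h6 := mem_normalizer_of_smul h5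
    rwa [normalizer_coatom hna (coatom_smul _ hBc)] at h6
  by_cases hI0 : I = ⊥
  · apply hmv
    have h3 : ∀ m ∈ A, a m = m := by
      intro m hm
      have h4 := hin m hm
      rw [hI0, Subgroup.mem_bot] at h4
      exact (inv_mul_eq_one.1 h4).symm
    apply le_antisymm
    · rintro _ ⟨m, hm, rfl⟩
      change a m ∈ A
      rw [h3 m hm]
      exact hm
    · intro m hm
      have h4 := mem_smul a hm
      rwa [h3 m hm] at h4
  · have hle : A ≤ Subgroup.normalizer (I : Set L) := by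
      intro m hm
      apply mem_normalizer_of_smul
      apply le_antisymm
      · rintro _ ⟨k, hk, rfl⟩
        have hk' : k ∈ I := hk
        rw [hI] at hk'
        change c m k ∈ I
        rw [hI]
        intro m' hm'
        have h3 := mem_smul (c m) (hk' (m⁻¹ * m') (mul_mem (inv_mem hm) hm'))
        rw [smul_smul, ← map_mul, mul_inv_cancel_left] at h3
        exact h3
      · intro k hk
        have hk' := hk
        rw [hI] at hk'
        have h4 : c m⁻¹ k ∈ I := by
          rw [hI]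
          intro m' hm'
          have h3 := mem_smul (c m⁻¹) (hk' (m * m') (mul_mem hm hm'))
          rw [smul_smul, ← map_mul, inv_mul_cancel_left] at h3
          exact h3
        have h5 := mem_smul (c m) h4
        rw [← MulAut.mul_apply, ← map_mul, mul_inv_cancel, map_one, MulAut.one_apply] at h5
        exact h5
    have hnt : Subgroup.normalizer (I : Set L) ≠ ⊤ := by
      intro h3
      have h4 : I.Normal := Subgroup.normalizer_eq_top_iff.1 h3
      rcases h4.eq_bot_or_eq_top with h5 | h5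
      · exact hI0 h5
      · apply hBc.1
        rw [eq_top_iff, ← h5]
        intro k hk
        have h6 := (hI k).1 hk 1 (one_mem _)
        rwa [map_one, one_smul] at h6
    have hNI : Subgroup.normalizer (I : Set L) = A := (hAc.le_iff.1 hle).resolve_left hnt
    have haI : ∀ k ∈ I, a k ∈ I := by
      intro k hk
      rw [hI] at hk ⊢
      intro m hm
      have h3 := mem_smul a (hk m hm)
      rwa [fixB m hm] at h3
    have haI' : a • I = I := smul_eq_of_inv haI
    apply hmv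
    have h3 : a • A ≤ A := by
      rintro _ ⟨m, hm, rfl⟩
      change a m ∈ A
      rw [← hNI]
      apply mem_normalizer_of_smul
      have h4 : c m • I = I := by
        have h5 : m ∈ Subgroup.normalizer (I : Set L) := by rw [hNI]; exact hm
        exact c_smul_of_normalizer h5
      conv_lhs => rw [← haI']
      rw [← a_smul_c, h4, haI']
    exact ((coatom_smul a hAc).le_iff.1 h3).resolve_left hAc.1 |>.symm

/-- if `a` maps a conjugate of `A` to a conjugate of `B` then it maps every conjugate of `A` to one of `B` -/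
theorem spread (a : MulAut L) {A B : Subgroup L} {y z : L} (g : a • (c y • A) = c z • B) (w : L) :
    ∃ v : L, a • (c w • A) = c v • B := by
  refine ⟨a (w * y⁻¹) * z, ?_⟩
  have e : c w • A = c (w * y⁻¹) • (c y • A) := by
    rw [smul_smul, ← map_mul, inv_mul_cancel_right]
  rw [e, a_smul_c, g, smul_smul, ← map_mul]

theorem conj_of_eq {A B : Subgroup L} {y z : L} (g : c y • A = c z • B) : c (z⁻¹ * y) • A = B := by
  rw [map_mul, mul_smul, g, c_inv_smul]

private theorem perm3 : ∀ σ : Fin 3 → Fin 3, Function.Injective σ → (∃ i, σ i ≠ i) →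
    (∃ k, σ k = k ∧ ∀ i, σ i = i → i = k) ∨ ∀ i, σ i ≠ i := by
  decide +kernel

/-- a class of the triple is moved -/
theorem no_moved (hna : ∃ x y : L, x * y ≠ y * x) {a : MulAut L} (ha : a ≠ 1) (U : Fin 3 → Subgroup L)
    (hc : ∀ i, IsCoatom (U i)) (hn : ∀ i j, i ≠ j → ∀ y : L, c y • U i ≠ U j)
    (alt : ∀ y : L, (∃ i, a • (c y • U i) = c y • U i) ∨ ∀ i, ∃ j, a • (c y • U i) = c y • U j)
    (hT : ∃ i, ∀ v : L, a • U i ≠ c v • U i) : False := by
  have func : ∀ {i j j' : Fin 3} {y z y' z' : L}, a • (c y • U i) = c z • U j → a • (c y' • U i) = c z' • U j' →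
      j = j' := by
    intro i j j' y z y' z' g g'
    obtain ⟨v, hv⟩ := spread a g y'
    by_contra hne
    exact hn j j' hne _ (conj_of_eq (hv.symm.trans g'))
  have e1 : ∀ M : Subgroup L, c (1 : L) • M = M := fun M => by rw [map_one, one_smul]
  obtain ⟨i₀, hi₀⟩ := hT
  have hi₀' : ∀ y z : L, a • (c y • U i₀) ≠ c z • U i₀ := by
    intro y z g
    obtain ⟨v, hv⟩ := spread a g 1
    rw [e1] at hv
    exact hi₀ v hv
  by_cases hperm : ∃ y₁ : L, ∀ i, ∃ j, a • (c y₁ • U i) = c y₁ • U j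
  · obtain ⟨y₁, hy₁⟩ := hperm
    choose σ hσ using hy₁
    have hinj : Function.Injective σ := by
      intro i j hij
      have g1 : a • (c y₁ • U i) = a • (c y₁ • U j) := by rw [hσ i, hσ j, hij]
      have g2 : c y₁ • U i = c y₁ • U j := MulAction.injective a g1
      by_contra hne
      exact hn i j hne _ (conj_of_eq g2)
    rcases perm3 σ hinj ⟨i₀, fun g => hi₀' y₁ y₁ (by rw [hσ i₀, g])⟩ with ⟨k, hk, huniq⟩ | hfree
    · apply ha
      refine eq_one_of_fix hna (hc k) fun y => ?_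
      rcases alt y with ⟨i, hi⟩ | g
      · have g1 : σ i = i := func (hσ i) hi
        rw [← huniq i g1]
        exact hi
      · obtain ⟨j, hj⟩ := g k
        have g1 : σ k = j := func (hσ k) hj
        rw [hk] at g1
        rw [hj, g1]
    · have all : ∀ y : L, a • (c y • U 0) = c y • U (σ 0) := by
        intro y
        rcases alt y with ⟨i, hi⟩ | g
        · exact absurd (func (hσ i) hi) (hfree i)
        · obtain ⟨j, hj⟩ := g 0
          rw [hj, func (hσ 0) hj]
      have g0 := all 1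
      rw [e1, e1] at g0
      have hle : U 0 ≤ U (σ 0) := by
        intro m hm
        have g1 := all m
        rw [c_smul_self hm, g0] at g1
        have g2 := mem_normalizer_of_smul g1.symm
        rwa [normalizer_coatom hna (hc _)] at g2
      have g3 := ((hc 0).le_iff.1 hle).resolve_left (hc (σ 0)).1
      exact hn 0 (σ 0) (hfree 0).symm 1 (by rw [e1]; exact g3.symm)
  · push Not at hperm
    have alt2 : ∀ y : L, ∃ i, i ≠ i₀ ∧ a • (c y • U i) = c y • U i := by
      intro y
      rcases alt y with ⟨i, hi⟩ | g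
      · refine ⟨i, ?_, hi⟩
        rintro rfl
        exact hi₀' y y hi
      · obtain ⟨i, hi⟩ := hperm y
        obtain ⟨j, hj⟩ := g i
        exact absurd hj (hi j)
    obtain ⟨j, k, hjk⟩ : ∃ j k : Fin 3, ∀ i, i ≠ i₀ → i = j ∨ i = k :=
      (by decide : ∀ i₀ : Fin 3, ∃ j k : Fin 3, ∀ i, i ≠ i₀ → i = j ∨ i = k) i₀
    apply ha
    refine eq_one_of_two hna (hc j) (hc k) fun y => ?_
    obtain ⟨i, hi, g⟩ := alt2 y
    rcases hjk i hi with rfl | rfl
    · exact Or.inl g
    · exact Or.inr g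

/-- **Three overgroups with one triple intersection** (all automorphisms, triality included): the moving condition
is only needed for the automorphisms which preserve the three classes. -/
theorem spr_of_three (hna : ∃ x y : L, x * y ≠ y * x) {s : L} {U₁ U₂ U₃ : Subgroup L} (h1 : IsCoatom U₁)
    (h2 : IsCoatom U₂) (h3 : IsCoatom U₃)
    (h : ∀ K : Subgroup L, s ∈ K → K ≠ ⊤ → K ≤ U₁ ∨ K ≤ U₂ ∨ K ≤ U₃)
    (h12 : U₁ ⊓ U₂ ≤ U₃) (h13 : U₁ ⊓ U₃ ≤ U₂) (h23 : U₂ ⊓ U₃ ≤ U₁)
    (n12 : ∀ y : L, c y • U₁ ≠ U₂) (n13 : ∀ y : L, c y • U₁ ≠ U₃) (n23 : ∀ y : L, c y • U₂ ≠ U₃)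
    (hH : ∀ a : MulAut L, (∃ y : L, a • U₁ = c y • U₁) → (∃ y : L, a • U₂ = c y • U₂) →
      (∃ y : L, a • U₃ = c y • U₃) → a • U₁ ≠ U₁ →
      ∃ y ∈ U₁, a • (c y • U₂) ≠ c y • U₂ ∧ a • (c y • U₃) ≠ c y • U₃) :
    Spr L := by
  have hco : ∀ N : Subgroup L, IsCoatom N → s ∈ N → N ∈ ({U₁, U₂, U₃} : Set (Subgroup L)) := by
    intro N hN hsN
    rcases h N hsN hN.1 with g | g | g
    · exact Or.inl ((hN.le_iff.1 g).resolve_left h1.1).symm
    · exact Or.inr (Or.inl ((hN.le_iff.1 g).resolve_left h2.1).symm)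
    · exact Or.inr (Or.inr ((hN.le_iff.1 g).resolve_left h3.1).symm)
  -- conjugacy is an equivalence relation
  have csymm : ∀ {A B : Subgroup L} {y : L}, c y • A = B → c y⁻¹ • B = A := by
    intro A B y g
    rw [← g, c_inv_smul]
  have n21 : ∀ y : L, c y • U₂ ≠ U₁ := fun y g => n12 y⁻¹ (csymm g)
  have n31 : ∀ y : L, c y • U₃ ≠ U₁ := fun y g => n13 y⁻¹ (csymm g)
  have n32 : ∀ y : L, c y • U₃ ≠ U₂ := fun y g => n23 y⁻¹ (csymm g)
  -- if a maps a conjugate of A to a conjugate of B then all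
  have spread : ∀ (a : MulAut L) {A B : Subgroup L} {y z : L}, a • (c y • A) = c z • B → ∀ w : L,
      ∃ v : L, a • (c w • A) = c v • B := by
    intro a A B y z g w
    refine ⟨a (w * y⁻¹) * z, ?_⟩
    have e : c w • A = c (w * y⁻¹) • (c y • A) := by
      rw [smul_smul, ← map_mul, inv_mul_cancel_right]
    rw [e, a_smul_c, g, smul_smul, ← map_mul]
  intro a ha
  by_contra hcon
  push Not at hcon
  -- the alternatives at `y`
  have alt : ∀ y : L, ∃ M ∈ ({U₁, U₂, U₃} : Set (Subgroup L)), a • (c y • M) = c y • M ∨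
      ((∀ N ∈ ({U₁, U₂, U₃} : Set (Subgroup L)), ∃ N' ∈ ({U₁, U₂, U₃} : Set (Subgroup L)),
        a • (c y • N) = c y • N')) := by
    intro y
    obtain ⟨K, hK1, hK2, hK3⟩ := hcon (c y s)
    set b : MulAut L := c y⁻¹ * a * c y with hb
    set K' : Subgroup L := c y⁻¹ • K with hK'
    have hs' : s ∈ K' := by
      have g := mem_smul (c y⁻¹) hK1
      rwa [← MulAut.mul_apply, ← map_mul, inv_mul_cancel, map_one, MulAut.one_apply] at g
    have hinv' : ∀ k ∈ K', b k ∈ K' := by
      rintro _ ⟨k, hk, rfl⟩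
      have g1 : b (c y⁻¹ k) = c y⁻¹ (a k) := by
        have g2 : b * c y⁻¹ = c y⁻¹ * a := by
          rw [hb]
          simp only [map_inv]
          group
        exact congrArg (fun f : MulAut L => f k) g2
      change b (c y⁻¹ k) ∈ c y⁻¹ • K
      rw [g1]
      exact mem_smul _ (hK2 k hk)
    have hne' : K' ≠ ⊤ := by
      intro g
      apply hK3
      rw [← c_smul_inv y K, ← hK', g]
      rw [eq_top_iff]
      intro z _
      have g1 := mem_smul (c y) (Subgroup.mem_top (c y⁻¹ z))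
      rwa [← MulAut.mul_apply, ← map_mul, mul_inv_cancel, map_one, MulAut.one_apply] at g1
    obtain ⟨N, hN, hKN⟩ := (eq_top_or_exists_le_coatom K').resolve_left hne'
    have hN' := hco N hN (hKN hs')
    have hN2 := smul_mem_over hco hs' hinv' hN hKN
    by_cases hfix : b • N = N
    · exact ⟨N, hN', Or.inl ((fix_conj_iff a y N).1 hfix)⟩
    · refine ⟨N, hN', Or.inr ?_⟩
      -- `K'` lies in two, hence in all three
      have hall : K' ≤ U₁ ∧ K' ≤ U₂ ∧ K' ≤ U₃ := by
        have k1 := hKN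
        have k2 := hN2.1
        rcases hN' with g | g | g <;> rcases hN2.2 with g' | g' | g' <;>
          rw [g] at k1 hfix k2 g' <;> rw [g'] at k2 hfix
        · exact absurd rfl hfix
        · exact ⟨k1, k2, (le_inf k1 k2).trans h12⟩
        · exact ⟨k1, (le_inf k1 k2).trans h13, k2⟩
        · exact ⟨k2, k1, (le_inf k2 k1).trans h12⟩
        · exact absurd rfl hfix
        · exact ⟨(le_inf k1 k2).trans h23, k1, k2⟩
        · exact ⟨k2, (le_inf k2 k1).trans h13, k1⟩
        · exact ⟨(le_inf k2 k1).trans h23, k2, k1⟩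
        · exact absurd rfl hfix
      intro N₁ hN₁
      have hcN₁ : IsCoatom N₁ := by
        rcases hN₁ with g | g | g <;> rw [g] <;> assumption
      have hKN₁ : K' ≤ N₁ := by
        rcases hN₁ with g | g | g <;> rw [g]
        · exact hall.1
        · exact hall.2.1
        · exact hall.2.2
      refine ⟨b • N₁, (smul_mem_over hco hs' hinv' hcN₁ hKN₁).2, ?_⟩
      rw [hb, smul_c_conj, c_smul_inv]
  -- the types
  by_cases hT : (∃ v : L, a • U₁ = c v • U₁) ∧ (∃ v : L, a • U₂ = c v • U₂) ∧ (∃ v : L, a • U₃ = c v • U₃)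
  · -- all classes preserved
    obtain ⟨⟨v₁, t1⟩, ⟨v₂, t2⟩, ⟨v₃, t3⟩⟩ := hT
    have e1 : ∀ M : Subgroup L, c (1 : L) • M = M := fun M => by rw [map_one, one_smul]
    have s1 := spread a (A := U₁) (B := U₁) (y := 1) (z := v₁) (by rw [e1]; exact t1)
    have s2 := spread a (A := U₂) (B := U₂) (y := 1) (z := v₂) (by rw [e1]; exact t2)
    have s3 := spread a (A := U₃) (B := U₃) (y := 1) (z := v₃) (by rw [e1]; exact t3)
    have cc : ∀ {A B : Subgroup L} {y z : L}, c y • A = c z • B → c (z⁻¹ * y) • A = B := by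
      intro A B y z g
      rw [map_mul, mul_smul, g, c_inv_smul]
    have alt' : ∀ y : L, a • (c y • U₁) = c y • U₁ ∨ a • (c y • U₂) = c y • U₂ ∨
        a • (c y • U₃) = c y • U₃ := by
      intro y
      obtain ⟨M, hM, g | g⟩ := alt y
      · rcases hM with g' | g' | g' <;> rw [g'] at g
        · exact Or.inl g
        · exact Or.inr (Or.inl g)
        · exact Or.inr (Or.inr g)
      · left
        obtain ⟨N', hN', g'⟩ := g U₁ (Or.inl rfl)
        obtain ⟨v, hv⟩ := s1 y
        rcases hN' with g'' | g'' | g'' <;> rw [g''] at g'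
        · exact g'
        · rw [hv] at g'; exact absurd (cc g') (n12 _)
        · rw [hv] at g'; exact absurd (cc g') (n13 _)
    apply ha
    refine eq_one_of_fix hna h1 fun y₀ => ?_
    by_contra hmv
    set b : MulAut L := c y₀⁻¹ * a * c y₀ with hb
    have hb1 : ∀ {A : Subgroup L}, (∀ w : L, ∃ v : L, a • (c w • A) = c v • A) → ∃ v : L, b • A = c v • A := by
      intro A g
      obtain ⟨v, hv⟩ := g y₀
      refine ⟨y₀⁻¹ * v, ?_⟩
      rw [hb, smul_c_conj, hv, smul_smul, ← map_mul]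
    obtain ⟨y, hy, g2, g3⟩ := hH b (hb1 s1) (hb1 s2) (hb1 s3) (fun g => hmv ((fix_conj_iff a y₀ U₁).1 g))
    have e : ∀ M : Subgroup L, b • (c y • M) = c y • M ↔ a • (c (y₀ * y) • M) = c (y₀ * y) • M := by
      intro M
      rw [hb, fix_conj_iff a y₀ (c y • M), smul_smul (c y₀), ← map_mul]
    rcases alt' (y₀ * y) with g | g | g
    · have g' := (e U₁).2 g
      rw [c_smul_self hy] at g'
      exact hmv ((fix_conj_iff a y₀ U₁).1 g')
    · exact g2 ((e U₂).2 g)
    · exact g3 ((e U₃).2 g)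
  · -- some class is moved
    refine no_moved hna ha ![U₁, U₂, U₃] ?_ ?_ (fun y => ?_) ?_
    · intro i
      fin_cases i <;> assumption
    · intro i j hij y
      fin_cases i <;> fin_cases j
      · exact absurd rfl hij
      · exact n12 y
      · exact n13 y
      · exact n21 y
      · exact absurd rfl hij
      · exact n23 y
      · exact n31 y
      · exact n32 y
      · exact absurd rfl hij
    · have idx : ∀ M ∈ ({U₁, U₂, U₃} : Set (Subgroup L)), ∃ i : Fin 3, M = ![U₁, U₂, U₃] i := by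
        intro M hM
        rcases hM with g | g | g
        · exact ⟨0, g⟩
        · exact ⟨1, g⟩
        · exact ⟨2, g⟩
      have mem : ∀ i : Fin 3, ![U₁, U₂, U₃] i ∈ ({U₁, U₂, U₃} : Set (Subgroup L)) := by
        intro i
        fin_cases i
        · exact Or.inl rfl
        · exact Or.inr (Or.inl rfl)
        · exact Or.inr (Or.inr rfl)
      obtain ⟨M, hM, g | g⟩ := alt y
      · obtain ⟨i, rfl⟩ := idx M hM
        exact Or.inl ⟨i, g⟩
      · right
        intro i
        obtain ⟨N', hN', g'⟩ := g _ (mem i)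
        obtain ⟨j, rfl⟩ := idx N' hN'
        exact ⟨j, g'⟩
    · by_contra hcon2
      push Not at hcon2
      exact hT ⟨hcon2 0, hcon2 1, hcon2 2⟩

section up

/-! ### transport along a surjection `f : G →* L` (matrix group onto simple group) -/

variable {G : Type*} [Group G]

end up

end Cfsg.Agent.H938.Spr
end

-- part: H823/O8S/Main
section
/-!
# S3938-OPLUS8: `Spr (PΩ⁺₈(q))` from the overgroup theorem (helper823)
-/

set_option autoImplicit false
set_option linter.unusedSectionVars false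

namespace Cfsg.Agent.H823.O8S

open Module QuadraticMap Cfsg Cfsg.Geo Cfsg.Agent.LieClassical.OrthCore Cfsg.Agent.H955 Cfsg.Agent.H954.TSing
open Cfsg.Agent.LieClassical.OmegaReindex
open Cfsg.Agent.H951 (fx cm Inv Irr)
open Cfsg.Agent.H884.El
open Cfsg.Agent.H708.O8 (I8 T8)
open Cfsg.Agent.H424.Spr
open Cfsg.Agent.H264.O8S (mem_tp scal_SW scal_NJ)
open scoped MatrixGroups Matrix Pointwise

variable {F : Type} [Field F] [Fintype F] {p a r k : ℕ} {x t z : GL I8 F} {J J' J₁ : Module.End F (I8 → F)} {c d : F}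

theorem Two.symm (f : Two x t J J' c d) : Two x t J' J c d :=
  ⟨f.fJ', f.fJ, f.cx', f.ct', f.cx, f.ct, fun v hv => (f.agree v hv).symm, fun v hv => by
    rw [f.conj v hv]
    abel⟩

/-- `J` and its conjugate `c - J` differ on every non-zero vector -/
theorem Fld.ne_conj (f : Fld J c d) {v : I8 → F} (hv : v ≠ 0) : J v ≠ c • v - J v := by
  intro h
  have h1 : (2 : F) • J v = c • v := by
    rw [two_smul]
    nth_rewrite 1 [h]
    abel
  have h2 := f.app v
  by_cases h20 : (2 : F) = 0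
  · rw [h20, zero_smul] at h1
    have hc : c = 0 := (smul_eq_zero.1 h1.symm).resolve_right hv
    have hch : CharP F 2 := CharTwo.of_one_ne_zero_of_two_eq_zero one_ne_zero h20
    obtain ⟨e, he⟩ := FiniteField.isSquare_of_char_two (ringChar.eq F 2) d
    apply f.irr e
    rw [hc, ← he]
    linear_combination d * h20
  · have h3 : J v = (c / 2) • v := by
      rw [div_eq_inv_mul, mul_smul, ← h1, smul_smul, inv_mul_cancel₀ h20, one_smul]
    rw [h3, map_smul, h3, smul_smul, smul_smul, ← sub_smul] at h2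
    have h4 : (c / 2 * (c / 2) - (c * (c / 2) - d)) • v = 0 := by rw [sub_smul, h2, sub_self]
    apply f.irr (c / 2)
    have h5 := (smul_eq_zero.1 h4).resolve_right hv
    linear_combination h5

/-- an element of odd order which normalises `F[J₁]` commutes with `J₁` -/
theorem comm_of_odd (f : Fld J₁ c d) {y : GL I8 F} (hy : y ∈ NJ J₁ c) {n : ℕ} (hn : Odd n) (hyn : y ^ n = 1) (v : I8 → F) :
    lin y (J₁ v) = J₁ (lin y v) := by
  rcases hy with h | h
  · exact h v
  exfalso
  have h2 : ∀ v, lin (y ^ 2) (J₁ v) = J₁ (lin (y ^ 2) v) := by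
    intro v
    rw [pow_two, lin_mul_apply, lin_mul_apply, h, map_sub, h, map_smul]
    abel
  have h3 : ∀ m : ℕ, ∀ v, lin (y ^ (2 * m)) (J₁ v) = J₁ (lin (y ^ (2 * m)) v) := by
    intro m
    induction m with
    | zero => intro v; rw [mul_zero, pow_zero, lin_one]; rfl
    | succ m ih =>
      intro v
      rw [mul_add, mul_one, pow_add, lin_mul_apply, lin_mul_apply, h2, ih]
  obtain ⟨m, rfl⟩ := hn
  obtain ⟨v, hv⟩ := exists_ne (0 : I8 → F)
  have h4 : ∀ v, J₁ v = c • v - J₁ v := by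
    intro v
    have h5 : lin (y ^ (2 * m + 1)) (J₁ v) = c • lin (y ^ (2 * m + 1)) v - J₁ (lin (y ^ (2 * m + 1)) v) := by
      rw [pow_succ', lin_mul_apply, lin_mul_apply, h3, h]
    rw [hyn, lin_one] at h5
    exact h5
  exact f.ne_conj hv (h4 v)

/-- **uniqueness of the fields normalised by `x` and `t`** -/
theorem norm_cases (b : Base x t z r) (f : Two x t J J' c d) (f₁ : Fld J₁ c d) (hx : x ∈ NJ J₁ c) (ht : t ∈ NJ J₁ c) :
    (∀ v, J₁ v = J v) ∨ (∀ v, J₁ v = c • v - J v) ∨ (∀ v, J₁ v = J' v) ∨ (∀ v, J₁ v = c • v - J' v) := by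
  have hz : z ∈ NJ J₁ c := by
    obtain ⟨n, rfl⟩ := b.z_eq
    exact Subgroup.pow_mem _ hx n
  have hodd : Odd r := b.pp.odd (by norm_num)
  have hcz := comm_of_odd f₁ hz hodd b.z_pow
  -- it is enough to treat the case of agreement on `V₆`
  have key : ∀ {J₁ : Module.End F (I8 → F)}, Fld J₁ c d → t ∈ NJ J₁ c → (∀ v, lin z (J₁ v) = J₁ (lin z v)) →
      (∀ v ∈ cm (lin x), J₁ v = J v) → (∀ v, J₁ v = J v) ∨ (∀ v, J₁ v = J' v) := by
    intro J₁ f₁ ht hcz h6
    have htj : ∀ v, J₁ (lin t v) = lin t (J₁ v) := by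
      rcases ht with h1 | h1
      · exact fun v => (h1 v).symm
      · exfalso
        obtain ⟨v, hv, hv0⟩ := (Submodule.ne_bot_iff _).1 b.irr6.1
        have h5 : lin t v = v := by rw [← H951.mem_fx, b.tV]; exact hv
        have h6' : lin t (J₁ v) = J₁ v := by
          rw [← H951.mem_fx, b.tV, h6 v hv]
          exact pres_cm (fun v => LinearMap.congr_fun f.cx v) hv
        have h7 := h1 v
        rw [h6', h5] at h7
        exact f₁.ne_conj hv0 h7
    have hW : ∀ {A : Module.End F (I8 → F)}, (∀ v, A (lin t v) = lin t (A v)) → ∀ w ∈ fx (lin x), A w ∈ fx (lin x) := by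
      intro A hA w hw
      rw [← b.tW] at hw ⊢
      exact pres_cm hA hw
    have hct : ∀ v, J (lin t v) = lin t (J v) := fun v => LinearMap.congr_fun f.ct v
    rcases two_roots b.irr2 (A := J₁) (B := J) (LinearMap.ext htj) f.ct (hW htj) (hW hct)
      (c := c) (d := d) (fun w _ => f₁.app w) (fun w _ => f.fJ.app w) with h2 | h2
    · left
      intro v
      have h3 : v ∈ fx (lin x) ⊔ cm (lin x) := by rw [b.compl.sup_eq_top]; exact Submodule.mem_top
      obtain ⟨u, hu, u', hu', rfl⟩ := Submodule.mem_sup.1 h3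
      rw [map_add, map_add, h2 u hu, h6 u' hu']
    · right
      intro v
      have h3 : v ∈ fx (lin x) ⊔ cm (lin x) := by rw [b.compl.sup_eq_top]; exact Submodule.mem_top
      obtain ⟨u, hu, u', hu', rfl⟩ := Submodule.mem_sup.1 h3
      rw [map_add, map_add, h2 u hu, h6 u' hu', f.conj u hu, f.agree u' hu']
  have hJz := comm_zpow b f.cx
  have hV : ∀ {A : Module.End F (I8 → F)}, (∀ v, A (lin z v) = lin z (A v)) → ∀ w ∈ cm (lin x), A w ∈ cm (lin x) := by
    intro A hA w hw
    rw [← b.cmz] at hw ⊢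
    exact pres_cm hA hw
  rcases two_roots b.irr6 (A := J₁) (B := J) (LinearMap.ext fun v => (hcz v).symm) hJz (hV fun v => (hcz v).symm)
    (hV fun v => LinearMap.congr_fun hJz v) (c := c) (d := d) (fun w _ => f₁.app w) (fun w _ => f.fJ.app w) with h2 | h2
  · rcases key f₁ ht hcz h2 with h3 | h3
    · exact Or.inl h3
    · exact Or.inr (Or.inr (Or.inl h3))
  · -- replace `J₁` by `c - J₁`
    obtain ⟨J₂, hJ₂⟩ : ∃ J₂ : Module.End F (I8 → F), ∀ v, J₂ v = c • v - J₁ v :=
      ⟨c • (1 : Module.End F (I8 → F)) - J₁, fun v => rfl⟩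
    have f₂ : Fld J₂ c d := by
      refine ⟨?_, f₁.irr, ?_⟩
      · refine LinearMap.ext fun v => ?_
        rw [Module.End.mul_apply, hJ₂, hJ₂, map_sub, map_smul, f₁.app, LinearMap.sub_apply, LinearMap.smul_apply,
          LinearMap.smul_apply, Module.End.one_apply, hJ₂]
        abel
      · intro v
        rw [hJ₂, H332.O8S.coe_qq, H332.O8S.coe_qq]
        have e1 : c • v - J₁ v = c • v + (-1 : F) • J₁ v := by rw [neg_one_smul, sub_eq_add_neg]
        rw [e1, H332.O8S.qq_add, H332.O8S.qq_smul, H332.O8S.qq_smul, H332.O8S.Fld.q f₁, map_smul, map_smul,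
          LinearMap.smul_apply, smul_eq_mul, smul_eq_mul, H332.O8S.bb_comm v (J₁ v), H332.O8S.Fld.bs f₁]
        ring
    have ht₂ : t ∈ NJ J₂ c := by
      rcases ht with h1 | h1
      · left
        intro v
        rw [hJ₂, hJ₂, map_sub, map_smul, h1]
      · right
        intro v
        rw [hJ₂, hJ₂, map_sub, map_smul, h1]
    have h6 : ∀ v ∈ cm (lin x), J₂ v = J v := by
      intro v hv
      rw [hJ₂, h2 v hv]
      abel
    rcases key f₂ ht₂ (fun v => by rw [hJ₂, hJ₂, map_sub, map_smul, hcz]) h6 with h3 | h3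
    · right; left
      intro v
      rw [← h3 v, hJ₂]
      abel
    · right; right; right
      intro v
      rw [← h3 v, hJ₂]
      abel

/-! ### conjugates of the three overgroups -/

theorem mem_smul_iff' {L : Type*} [Group L] {y u : L} {U : Subgroup L} :
    u ∈ H424.Spr.c y • U ↔ y⁻¹ * u * y ∈ U := by
  rw [Subgroup.mem_pointwise_smul_iff_inv_smul_mem]
  change (MulAut.conj y)⁻¹ • u ∈ U ↔ _
  rw [← map_inv]
  change y⁻¹ * u * y⁻¹⁻¹ ∈ U ↔ _
  rw [inv_inv]

/-- `x` and `t` lie in the preimage -/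
theorem pre_of_mem {K : Subgroup (T8 F)} {yx : Omega F (quadFormPlus 4 F)} (h : mk8 F yx ∈ K) :
    gl8 F yx ∈ pre (quadFormPlus 4 F) K := mem_pre.2 h

section conj

variable {yx yt : Omega F (quadFormPlus 4 F)} (hyx : gl8 F yx = x) (hyt : gl8 F yt = t)
include hyx hyt

/-- `Stab (g W)` contains `x`, `t` only if `g W = W` -/
theorem conj_U₁ (b : Base x t z r) {y : T8 F} {U : Subgroup (T8 F)} (hxU : mk8 F yx ∈ U) (htU : mk8 F yt ∈ U)
    (h : H424.Spr.c y • U₁ x = U) : U ≤ U₁ x := by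
  obtain ⟨g, rfl⟩ := QuotientGroup.mk'_surjective _ y
  have hmem : ∀ u : Omega F (quadFormPlus 4 F), mk8 F u ∈ U ↔
      gl8 F u ∈ SW ((fx (lin x)).map (lin (gl8 F g))) := by
    intro u
    rw [← h, mem_smul_iff']
    change mk8 F (g⁻¹ * u * g) ∈ tp _ ↔ _
    rw [mem_tp (scal_SW _)]
    change gl8 F (g⁻¹ * u * g) ∈ SW _ ↔ _
    simp only [map_mul, map_mul, map_inv, mem_SW, mem_SW]
    have e : ∀ W : Submodule F (I8 → F), W.map (lin ((gl8 F g)⁻¹ * gl8 F u * gl8 F g)) =
        ((W.map (lin (gl8 F g))).map (lin (gl8 F u))).map (lin (gl8 F g)⁻¹) := by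
      intro W
      simp only [← Submodule.map_comp (lin ((gl8 F) u)) (lin ((gl8 F) g)⁻¹) (Submodule.map (lin ((gl8 F) g)) W), ← Submodule.map_comp (lin ((gl8 F) g)) (lin ((gl8 F) g)⁻¹ ∘ₗ lin ((gl8 F) u)) W]
      congr 1
      refine LinearMap.ext fun v => ?_
      simp only [LinearMap.comp_apply, LinearMap.comp_apply, lin_mul_apply, lin_mul_apply]
    have e2 : ∀ W : Submodule F (I8 → F), (W.map (lin (gl8 F g))).map (lin (gl8 F g)⁻¹) = W := by
      intro W
      rw [← Submodule.map_comp]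
      have e3 : (lin (gl8 F g)⁻¹).comp (lin (gl8 F g)) = LinearMap.id := LinearMap.ext fun v => lin_inv_apply _ v
      rw [e3, Submodule.map_id]
    rw [e]
    constructor
    · intro h1
      have h2 := congrArg (Submodule.map (lin (gl8 F g))) h1
      rw [← Submodule.map_comp] at h2
      have e3 : (lin (gl8 F g)).comp (lin (gl8 F g)⁻¹) = LinearMap.id := LinearMap.ext fun v => lin_apply_inv _ v
      (simp only [e3, Submodule.map_id] at h2; assumption)
    · intro h1
      rw [h1, e2]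
  have hx := (hmem yx).1 hxU
  have ht := (hmem yt).1 htU
  rw [hyx] at hx
  rw [hyt] at ht
  have hz : z ∈ SW ((fx (lin x)).map (lin (gl8 F g))) := by
    obtain ⟨n, rfl⟩ := b.z_eq
    exact Subgroup.pow_mem _ hx n
  have hinv : ∀ {y : GL I8 F} {W : Submodule F (I8 → F)}, y ∈ SW W → _root_.Cfsg.Agent.H951.Inv (lin y) W := by
    intro y W hy w hw
    rw [mem_SW] at hy
    rw [← hy]
    exact ⟨w, hw, rfl⟩
  have hd : finrank F ((fx (lin x)).map (lin (gl8 F g))) = 2 := by
    rw [H955.finrank_map_of_injective _ ((by exact lin_inj _)), b.dim2]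
  have hW : (fx (lin x)).map (lin (gl8 F g)) = fx (lin x) := by
    rcases b.inv_cases (hinv hz) (hinv ht) with h1 | h1 | h1 | h1
    · rw [h1, finrank_bot] at hd
      omega
    · exact h1
    · rw [h1, b.dim6] at hd
      omega
    · rw [h1, finrank_top, finrank_I8] at hd
      omega
  intro u hu
  obtain ⟨u', rfl⟩ := QuotientGroup.mk'_surjective _ u
  have h1 := (hmem u').1 hu
  rw [hW] at h1
  exact mk_mem_tp h1

/-- `N (g F[J] g⁻¹)` contains `x`, `t` only if the field is `F[J]` or `F[J']` -/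
theorem conj_U₂ (b : Base x t z r) (f : Two x t J J' c d) {y : T8 F} {U : Subgroup (T8 F)} (hxU : mk8 F yx ∈ U)
    (htU : mk8 F yt ∈ U) (h : H424.Spr.c y • U₂ J c = U) : U ≤ U₂ J c ∨ ∃ g ∈ omegaGL (quadFormPlus 4 F),
      ((∀ v, lin g (J v) = J' (lin g v)) ∨ (∀ v, lin g (J v) = c • lin g v - J' (lin g v))) := by
  obtain ⟨g, rfl⟩ := QuotientGroup.mk'_surjective _ y
  obtain ⟨J₁, hJ₁⟩ : ∃ J₁ : Module.End F (I8 → F), ∀ v, J₁ v = lin (gl8 F g) (J (lin (gl8 F g)⁻¹ v)) :=
    ⟨(lin (gl8 F g)).comp (J.comp (lin (gl8 F g)⁻¹)), fun v => rfl⟩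
  have hg := iso_of_mem (g : isometryGroup F (quadFormPlus 4 F)).2
  have hgi : ∀ v, quadFormPlus 4 F (lin (gl8 F g)⁻¹ v) = quadFormPlus 4 F v := by
    intro v
    have h1 := hg (lin (gl8 F g)⁻¹ v)
    change quadFormPlus 4 F (lin (gl8 F g) (lin (gl8 F g)⁻¹ v)) = _ at h1
    rw [lin_apply_inv] at h1
    exact h1.symm
  have f₁ : Fld J₁ c d := by
    refine ⟨?_, f.fJ.irr, ?_⟩
    · refine LinearMap.ext fun v => ?_
      simp only [Module.End.mul_apply, hJ₁, hJ₁, lin_inv_apply, f.fJ.app, LinearMap.sub_apply, LinearMap.smul_apply,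
        LinearMap.smul_apply, Module.End.one_apply, hJ₁, map_sub, map_smul, map_smul, lin_apply_inv]
    · intro v
      rw [hJ₁]
      change quadFormPlus 4 F (lin ((g : isometryGroup F (quadFormPlus 4 F)) : GL I8 F) _) = _
      rw [hg, f.fJ.sim, hgi]
  have hmem : ∀ u : Omega F (quadFormPlus 4 F), mk8 F u ∈ U ↔ gl8 F u ∈ NJ J₁ c := by
    intro u
    rw [← h, mem_smul_iff']
    change mk8 F (g⁻¹ * u * g) ∈ tp _ ↔ _
    rw [mem_tp (scal_NJ _ _)]
    change gl8 F (g⁻¹ * u * g) ∈ NJ _ _ ↔ _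
    simp only [map_mul, map_mul, map_inv, mem_NJ, mem_NJ]
    have e : ∀ v, lin ((gl8 F g)⁻¹ * gl8 F u * gl8 F g) v = lin (gl8 F g)⁻¹ (lin (gl8 F u) (lin (gl8 F g) v)) := by
      intro v
      simp only [lin_mul_apply, lin_mul_apply]
    constructor
    · rintro (h1 | h1)
      · left
        intro v
        have h2 := h1 (lin (gl8 F g)⁻¹ v)
        simp only [e, e, lin_apply_inv] at h2
        simp only [hJ₁, hJ₁, ← h2, lin_apply_inv]
      · right
        intro v
        have h2 := h1 (lin (gl8 F g)⁻¹ v)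
        simp only [e, e, lin_apply_inv] at h2
        have h3 := congrArg (lin (gl8 F g)) h2
        simp only [lin_apply_inv, map_sub, map_smul, lin_apply_inv] at h3
        simp only [hJ₁, hJ₁, h3]
    · rintro (h1 | h1)
      · left
        intro v
        have h2 := h1 (lin (gl8 F g) v)
        simp only [hJ₁, hJ₁, lin_inv_apply] at h2
        simp only [e, e, h2, lin_inv_apply]
      · right
        intro v
        have h2 := h1 (lin (gl8 F g) v)
        simp only [hJ₁, hJ₁, lin_inv_apply] at h2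
        simp only [e, e, h2, map_sub, map_smul, lin_inv_apply]
  have hx := (hmem yx).1 hxU
  have ht := (hmem yt).1 htU
  rw [hyx] at hx
  rw [hyt] at ht
  have hle : (∀ v, J₁ v = J v) ∨ (∀ v, J₁ v = c • v - J v) → U ≤ U₂ J c := by
    intro h1 u hu
    obtain ⟨u', rfl⟩ := QuotientGroup.mk'_surjective _ u
    refine mk_mem_tp ?_
    have h2 := mem_NJ.1 ((hmem u').1 hu)
    rw [mem_NJ]
    rcases h1 with h1 | h1
    · simp only [h1] at h2
      exact h2
    · rcases h2 with h2 | h2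
      · left
        intro v
        have h3 := h2 v
        simp only [h1, h1, map_sub, map_smul] at h3
        exact sub_right_injective h3
      · right
        intro v
        have h3 := h2 v
        simp only [h1, h1, map_sub, map_smul] at h3
        exact sub_right_injective h3
  rcases norm_cases b f f₁ hx ht with h1 | h1 | h1 | h1
  · exact Or.inl (hle (Or.inl h1))
  · exact Or.inl (hle (Or.inr h1))
  · right
    refine ⟨gl8 F g, ⟨_, g.2, rfl⟩, Or.inl fun v => ?_⟩
    have h2 := h1 (lin (gl8 F g) v)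
    rwa [hJ₁, lin_inv_apply] at h2
  · right
    refine ⟨gl8 F g, ⟨_, g.2, rfl⟩, Or.inr fun v => ?_⟩
    have h2 := h1 (lin (gl8 F g) v)
    (simp only [hJ₁, lin_inv_apply] at h2; assumption)

end conj

seal _root_.Finset.sum _root_.dotProduct in
/-- **`Spr` from the overgroup theorem** -/
theorem spr_of_over [IsSimpleGroup (T8 F)] (hF : Nat.card F = p ^ a) (h : RW p a r k) (w : Wit x t (r ^ k)) (f : Two x t J J' c d)
    (hna : ∃ u v : T8 F, u * v ≠ v * u)
    (ho : ∀ {K : Subgroup (T8 F)}, x ∈ pre (quadFormPlus 4 F) K → t ∈ pre (quadFormPlus 4 F) K → K ≠ ⊤ →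
      K ≤ U₁ x ∨ K ≤ U₂ J c ∨ K ≤ U₂ J' c)
    (hH : ∀ e : MulAut (T8 F), (∃ y : T8 F, e • U₁ x = H424.Spr.c y • U₁ x) →
      (∃ y : T8 F, e • U₂ J c = H424.Spr.c y • U₂ J c) → (∃ y : T8 F, e • U₂ J' c = H424.Spr.c y • U₂ J' c) →
      e • U₁ x ≠ U₁ x → ∃ y ∈ U₁ x, e • (H424.Spr.c y • U₂ J c) ≠ H424.Spr.c y • U₂ J c ∧
        e • (H424.Spr.c y • U₂ J' c) ≠ H424.Spr.c y • U₂ J' c) : Spr (T8 F) := by
  obtain ⟨z, b⟩ := base_w hF h w
  obtain ⟨i1, i2, i3⟩ := H264.O8S.u_inf_w hF h w f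
  obtain ⟨n1, n2, n3, n4⟩ := H264.O8S.u_not_le_w hF h w f
  obtain ⟨n5, n6, -, n8⟩ := H264.O8S.u_not_le_w hF h w f.symm
  obtain ⟨yx, hyx0, hyx⟩ : ∃ y : Omega F (quadFormPlus 4 F), True ∧ gl8 F y = x := by
    obtain ⟨y, hy, hyx⟩ := w.x_mem
    exact ⟨⟨y, hy⟩, trivial, hyx⟩
  obtain ⟨yt, hyt0, hyt⟩ : ∃ y : Omega F (quadFormPlus 4 F), True ∧ gl8 F y = t := by
    obtain ⟨y, hy, hyt⟩ := w.t_mem
    exact ⟨⟨y, hy⟩, trivial, hyt⟩
  have hinj : Function.Injective (gl8 F) := (isometryGroup F (quadFormPlus 4 F)).subtype_injective.comp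
    (Omega F (quadFormPlus 4 F)).subtype_injective
  -- `x` and `t` are powers of `s = x t`
  have hcomm : Commute yx yt := by
    apply hinj
    change gl8 F (yx * yt) = gl8 F (yt * yx)
    simp only [map_mul, map_mul, hyx, hyt, w.comm]
  have hcop : Nat.Coprime (orderOf yx) (orderOf yt) := by
    have e1 : orderOf yx = r ^ k := by rw [← w.x_ord, ← hyx, orderOf_injective _ hinj]
    have e2 : orderOf yt = mt (p ^ a) := by rw [← hF, ← w.t_ord, ← hyt, orderOf_injective _ hinj]
    rw [e1, e2]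
    apply Nat.Coprime.pow_left
    rw [h.pp.prime.coprime_iff_not_dvd]
    intro h1
    have h2 := h1.trans (mt_dvd (p ^ a) (by have := h.four; omega))
    have h3 : r ∣ (p ^ a) ^ 2 - 1 := by
      have h4 : (p ^ a) ^ 2 - 1 = (p ^ a + 1) * (p ^ a - 1) := by
        have := Nat.sq_sub_sq (p ^ a) 1
        rwa [one_pow] at this
      rw [h4]
      exact h2.mul_right _
    rw [h.pp.dvd_iff (by have := h.four; omega)] at h3
    exact absurd h3 (by norm_num)
  have hpw : ∀ {u v : Omega F (quadFormPlus 4 F)}, Commute u v → Nat.Coprime (orderOf u) (orderOf v) →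
      u ∈ Subgroup.zpowers (u * v) := by
    intro u v hc hcop
    have h1 : (u * v) ^ orderOf v = u ^ orderOf v := by simp only [hc.mul_pow, pow_orderOf_eq_one, mul_one]
    have h2 : u ∈ Subgroup.zpowers (u ^ orderOf v) := mem_zpowers_pow_iff.2 hcop.symm
    rw [← h1] at h2
    exact (Subgroup.zpowers_le.2 (Subgroup.pow_mem _ (Subgroup.mem_zpowers _) _)) h2
  have hsx : yx ∈ Subgroup.zpowers (yx * yt) := hpw hcomm hcop
  have hst : yt ∈ Subgroup.zpowers (yx * yt) := by
    rw [hcomm.eq]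
    exact hpw hcomm.symm hcop.symm
  have hxK : ∀ {K : Subgroup (T8 F)}, mk8 F (yx * yt) ∈ K → mk8 F yx ∈ K ∧ mk8 F yt ∈ K := by
    intro K hK
    constructor
    · obtain ⟨i, hi⟩ := Subgroup.mem_zpowers_iff.1 hsx
      rw [← hi, map_zpow]
      exact K.zpow_mem hK i
    · obtain ⟨i, hi⟩ := Subgroup.mem_zpowers_iff.1 hst
      rw [← hi, map_zpow]
      exact K.zpow_mem hK i
  have hov : ∀ K : Subgroup (T8 F), mk8 F (yx * yt) ∈ K → K ≠ ⊤ → K ≤ U₁ x ∨ K ≤ U₂ J c ∨ K ≤ U₂ J' c := by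
    intro K hK hne
    obtain ⟨h1, h2⟩ := hxK hK
    refine ho ?_ ?_ hne
    · rw [← hyx]; exact pre_of_mem h1
    · rw [← hyt]; exact pre_of_mem h2
  -- `s` lies in the three subgroups
  have m1 : mk8 F (yx * yt) ∈ U₁ x := by
    refine mk_mem_tp ?_
    change gl8 F (yx * yt) ∈ _
    rw [map_mul, hyx, hyt]
    refine Subgroup.mul_mem _ ?_ ?_
    · rw [mem_SW]
      apply le_antisymm
      · rintro _ ⟨v, hv, rfl⟩
        rw [H951.mem_fx.1 hv]; exact hv
      · intro v hv
        exact ⟨v, hv, H951.mem_fx.1 hv⟩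
    · rw [mem_SW]
      exact Submodule.eq_of_le_of_finrank_eq (by
        rintro _ ⟨v, hv, rfl⟩
        exact b.irr2.2.1 v hv) (H955.finrank_map_of_injective _ ((by exact lin_inj _)))
  have m2 : ∀ {J J' : Module.End F (I8 → F)}, Two x t J J' c d → mk8 F (yx * yt) ∈ U₂ J c := by
    intro J J' f
    refine mk_mem_tp ?_
    change gl8 F (yx * yt) ∈ _
    rw [map_mul, hyx, hyt]
    refine Subgroup.mul_mem _ ?_ ?_
    · exact Or.inl fun v => (LinearMap.congr_fun f.cx v).symm
    · exact Or.inl fun v => (LinearMap.congr_fun f.ct v).symm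
  have hco1 : IsCoatom (U₁ x) := by
    refine ⟨n3, fun K hK => ?_⟩
    by_contra hne
    rcases hov K (hK.le m1) hne with h1 | h1 | h1
    · exact absurd h1 hK.not_ge
    · exact n1 (hK.le.trans h1)
    · exact n5 (hK.le.trans h1)
  have hco2 : ∀ {J J' : Module.End F (I8 → F)}, Two x t J J' c d → ¬ U₂ J c ≤ U₁ x → U₂ J c ≠ ⊤ →
      U₂ J c ⊓ U₂ J' c ≤ U₁ x → (∀ K : Subgroup (T8 F), mk8 F (yx * yt) ∈ K → K ≠ ⊤ → K ≤ U₁ x ∨ K ≤ U₂ J c ∨
        K ≤ U₂ J' c) → IsCoatom (U₂ J c) := by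
    intro J J' f n2 n4 i3 hov
    refine ⟨n4, fun K hK => ?_⟩
    by_contra hne
    rcases hov K (hK.le (m2 f)) hne with h1 | h1 | h1
    · exact n2 (hK.le.trans h1)
    · exact absurd h1 hK.not_ge
    · exact n2 ((le_inf le_rfl (hK.le.trans h1)).trans i3)
  refine H938.Spr.spr_of_three hna (s := mk8 F (yx * yt)) hco1 (hco2 f n2 n4 i3 hov)
    (hco2 f.symm n6 n8 (by rw [inf_comm]; exact i3) fun K h1 h2 => (hov K h1 h2).imp_right Or.symm) hov i1 i2 i3 ?_ ?_ ?_ hH
  · intro y hy
    obtain ⟨h1, h2⟩ := hxK (m2 f)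
    exact n2 (conj_U₁ hyx hyt b h1 h2 hy)
  · intro y hy
    obtain ⟨h1, h2⟩ := hxK (m2 f.symm)
    exact n6 (conj_U₁ hyx hyt b h1 h2 hy)
  · intro y hy
    obtain ⟨h1, h2⟩ := hxK (m2 f.symm)
    rcases conj_U₂ hyx hyt b f h1 h2 hy with h3 | ⟨g, hg, h3⟩
    · exact n6 ((le_inf h3 le_rfl).trans i3)
    · exact H332.O8S.not_conj' w f hg h3

end Cfsg.Agent.H823.O8S
end

private theorem dce_d4e66ee0150e : _root_.True := by
  try have : _root_.True := by simp only [_root_.Cfsg.Agent.H264.O8S.sp.eq_1]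
  exact _root_.True.intro
end
end
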